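import Cfsg.Agent.Lib.G2Type.Model

/-!
# Involutions of the model, their classes and centralizers
-/

set_option autoImplicit false

namespace Cfsg.Agent.G2Type.Mdl

variable {k : ℕ}

/-- `N / 2`. -/
def hh (k : ℕ) : ZMod (4 * k) := ((2 * k : ℕ) : ZMod (4 * k))

/-- `N / 4`. -/
def kk (k : ℕ) : ZMod (4 * k) := ((k : ℕ) : ZMod (4 * k))

theorem two_kk : 2 * kk k = hh k := by rw [hh, kk]; push_cast; ring

theorem two_hh : (2 : ZMod (4 * k)) * hh k = 0 := by
  rw [hh, ← Nat.cast_ofNat (R := ZMod (4 * k)), ← Nat.cast_mul, show 2 * (2 * k) = 4 * k by ring,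
    ZMod.natCast_self]

theorem neg_hh : -hh k = hh k := by
  have := two_hh (k := k)
  rw [two_mul] at this
  exact neg_eq_of_add_eq_zero_left this

/-- The parity of a residue. -/
def par (k : ℕ) : ZMod (4 * k) →+* ZMod 2 :=
  ZMod.castHom (dvd_mul_of_dvd_left (by norm_num : (2 : ℕ) ∣ 4) k) (ZMod 2)

theorem par_two_mul (x : ZMod (4 * k)) : par k (2 * x) = 0 := by
  rw [map_mul, show par k 2 = 0 by rw [map_ofNat]; rfl, zero_mul]

theorem par_hh : par k (hh k) = 0 := by rw [← two_kk]; exact par_two_mul _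

theorem par_kk (hk : Even k) : par k (kk k) = 0 := by
  rw [kk, map_natCast]
  obtain ⟨a, rfl⟩ := hk
  rw [ZMod.natCast_eq_zero_iff_even]
  exact Even.add_self a

theorem par_cases (x : ZMod (4 * k)) : par k x = 0 ∨ par k x = 1 := by
  generalize par k x = a
  revert a
  decide

variable [NeZero k]

theorem exists_two_mul {x : ZMod (4 * k)} (h : par k x = 0) : ∃ y, x = 2 * y := by
  rw [← ZMod.natCast_zmod_val x, map_natCast, ZMod.natCast_eq_zero_iff_even] at h
  obtain ⟨a, ha⟩ := h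
  refine ⟨(a : ZMod (4 * k)), ?_⟩
  rw [← ZMod.natCast_zmod_val x, ha]
  push_cast
  ring

theorem two_mul_eq_zero {x : ZMod (4 * k)} (h : 2 * x = 0) : x = 0 ∨ x = hh k := by
  rw [← ZMod.natCast_zmod_val x, ← Nat.cast_ofNat (R := ZMod (4 * k)), ← Nat.cast_mul,
    ZMod.natCast_eq_zero_iff] at h
  obtain ⟨c, hc⟩ := h
  have hlt := ZMod.val_lt x
  have hc2 : c < 2 := by
    by_contra hcon
    push Not at hcon
    have : 4 * k * 2 ≤ 4 * k * c := Nat.mul_le_mul_left _ hcon
    omega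
  interval_cases c
  · left
    rw [← ZMod.natCast_zmod_val x, show x.val = 0 by omega, Nat.cast_zero]
  · right
    rw [← ZMod.natCast_zmod_val x, show x.val = 2 * k by omega, hh]

theorem hh_ne : hh k ≠ 0 := by
  have hk := NeZero.pos k
  rw [hh, Ne, ZMod.natCast_eq_zero_iff]
  intro h
  have := Nat.le_of_dvd (by omega) h
  omega

theorem kk_ne : kk k ≠ 0 := fun h => hh_ne (k := k) (by rw [← two_kk, h, mul_zero])

theorem kk_ne_hh : kk k ≠ hh k := fun h =>
  hh_ne (k := k) (by have := two_kk (k := k); rw [h, two_hh] at this; exact this.symm)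

/-! ### Named elements -/

variable (k)

/-- The central involution. -/
def zE : Mdl (4 * k) := ⟨0, hh k, false, false⟩
/-- A non-central involution of the abelian subgroup. -/
def eE : Mdl (4 * k) := ⟨hh k, 0, false, false⟩
/-- `u`. -/
def uE : Mdl (4 * k) := ⟨0, 0, true, false⟩
/-- `v`. -/
def vE : Mdl (4 * k) := ⟨0, 0, false, true⟩
/-- `uv`. -/
def w0 : Mdl (4 * k) := ⟨0, 0, true, true⟩
/-- `uv (0, 1)`. -/
def w1 : Mdl (4 * k) := ⟨0, 1, true, true⟩
/-- `uv (1, 0)`. -/
def w2 : Mdl (4 * k) := ⟨1, 0, true, true⟩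

variable {k}

theorem ne_one_of_i {x : Mdl (4 * k)} (h : x.i = true) : x ≠ 1 := fun e => by
  rw [e] at h; simp at h

theorem ne_one_of_j {x : Mdl (4 * k)} (h : x.j = true) : x ≠ 1 := fun e => by
  rw [e] at h; simp at h

theorem zE_ne : zE k ≠ 1 := fun e => hh_ne (congrArg Mdl.q e)
theorem eE_ne : eE k ≠ 1 := fun e => hh_ne (congrArg Mdl.p e)
theorem eE_ne_zE : eE k ≠ zE k := fun e => hh_ne (congrArg Mdl.p e)

theorem zE_sq : zE k * zE k = 1 := by
  ext <;> simp [zE, act1, act2, one_def]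
  rw [← two_mul]; exact two_hh

theorem eE_sq : eE k * eE k = 1 := by
  ext <;> simp [eE, act1, act2, one_def]
  rw [← two_mul]; exact two_hh

theorem zE_central (x : Mdl (4 * k)) : zE k * x = x * zE k := by
  obtain ⟨p, q, i, j⟩ := x
  cases i <;> cases j <;> ext <;> simp [zE, act1, act2, neg_hh] <;> ring

/-! ### Classification -/

/-- Conjugation to one of seven representatives. -/
theorem involution_cases {x : Mdl (4 * k)} (hx : x * x = 1) (hx1 : x ≠ 1) :
    IsConj x (zE k) ∨ IsConj x (eE k) ∨ IsConj x (uE k) ∨ IsConj x (vE k) ∨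
      IsConj x (w0 k) ∨ IsConj x (w1 k) ∨ IsConj x (w2 k) := by
  obtain ⟨p, q, i, j⟩ := x
  have ep := congrArg Mdl.p hx
  have eq' := congrArg Mdl.q hx
  simp only [mul_mk, one_p, one_q] at ep eq'
  cases i <;> cases j <;> simp only [act1, act2, cond_true, cond_false] at ep eq'
  · rcases two_mul_eq_zero (x := p) (by rw [two_mul]; exact ep) with rfl | rfl <;>
      rcases two_mul_eq_zero (x := q) (by rw [two_mul]; exact eq') with rfl | rfl
    · exact absurd rfl hx1
    · exact Or.inl (IsConj.refl _)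
    · exact Or.inr (Or.inl (IsConj.refl _))
    · refine Or.inr (Or.inl (isConj_iff.2 ⟨vE k, ?_⟩))
      have h2 : hh k + hh k = 0 := by rw [← two_mul]; exact two_hh
      ext <;> simp [eE, vE, act1, act2, neg_hh, sub_eq_add_neg, h2]
  · refine Or.inr (Or.inr (Or.inr (Or.inl (isConj_iff.2 ?_))))
    have hp : p = 0 := by linear_combination -eq'
    subst hp
    refine ⟨⟨-q, 0, false, false⟩, ?_⟩
    ext <;> simp [vE, act1, act2]
  · refine Or.inr (Or.inr (Or.inl (isConj_iff.2 ?_)))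
    refine ⟨⟨-(-q), 0, false, false⟩, ?_⟩
    have hp : p = -2 * q := by linear_combination eq'
    subst hp
    ext <;> simp [uE, act1, act2] <;> ring
  · rcases par_cases p with hp | hp <;> rcases par_cases q with hq | hq
    · obtain ⟨a, rfl⟩ := exists_two_mul hp
      obtain ⟨b, rfl⟩ := exists_two_mul hq
      refine Or.inr (Or.inr (Or.inr (Or.inr (Or.inl (isConj_iff.2 ⟨⟨-a, -b, false, false⟩, ?_⟩)))))
      ext <;> simp [w0, act1, act2] <;> ring
    · obtain ⟨a, rfl⟩ := exists_two_mul hp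
      obtain ⟨b, hb⟩ := exists_two_mul (x := q - 1) (by rw [map_sub, hq, map_one, sub_self])
      rw [sub_eq_iff_eq_add] at hb
      subst hb
      refine Or.inr (Or.inr (Or.inr (Or.inr (Or.inr (Or.inl
        (isConj_iff.2 ⟨⟨-a, -b, false, false⟩, ?_⟩))))))
      ext <;> simp [w1, act1, act2] <;> ring
    · obtain ⟨a, ha⟩ := exists_two_mul (x := p - 1) (by rw [map_sub, hp, map_one, sub_self])
      rw [sub_eq_iff_eq_add] at ha
      subst ha
      obtain ⟨b, rfl⟩ := exists_two_mul hq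
      refine Or.inr (Or.inr (Or.inr (Or.inr (Or.inr (Or.inr
        (isConj_iff.2 ⟨⟨-a, -b, false, false⟩, ?_⟩))))))
      ext <;> simp [w2, act1, act2] <;> ring
    · obtain ⟨a, ha⟩ := exists_two_mul (x := p - 1) (by rw [map_sub, hp, map_one, sub_self])
      rw [sub_eq_iff_eq_add] at ha
      subst ha
      obtain ⟨b, hb⟩ := exists_two_mul (x := q - 1) (by rw [map_sub, hq, map_one, sub_self])
      rw [sub_eq_iff_eq_add] at hb
      subst hb
      refine Or.inr (Or.inr (Or.inr (Or.inr (Or.inr (Or.inr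
        (isConj_iff.2 ⟨⟨1 + a, -(a + b + 1), true, false⟩, ?_⟩))))))
      ext <;> simp [w2, act1, act2] <;> ring

/-- Involutions with an odd first coordinate are conjugate to `w2`, and conversely. -/
theorem par_p_of_isConj {x y : Mdl (4 * k)} (h : IsConj x y) : par k x.p = par k y.p := by
  obtain ⟨g, hg⟩ := isConj_iff.1 h
  rw [← hg]
  obtain ⟨a, b, i, j⟩ := g
  obtain ⟨p, q, i', j'⟩ := x
  have h2 : ∀ t : ZMod 2, -t = t := by decide
  have h3 : ∀ s t : ZMod 2, s + t + -s = t := by decide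
  cases i <;> cases j <;> cases i' <;> cases j' <;>
    simp [act1, act2, h2] <;>
    generalize par k a = s <;> generalize par k p = t <;> revert s t <;> decide

theorem isConj_parity {p q p' q' : ZMod (4 * k)} (hp : par k p = par k p') (hq : par k q = par k q') :
    IsConj (⟨p, q, true, true⟩ : Mdl (4 * k)) ⟨p', q', true, true⟩ := by
  obtain ⟨a, ha⟩ := exists_two_mul (x := p' - p) (by rw [map_sub, hp, sub_self])
  obtain ⟨b, hb⟩ := exists_two_mul (x := q' - q) (by rw [map_sub, hq, sub_self])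
  rw [sub_eq_iff_eq_add] at ha hb
  subst ha hb
  refine isConj_iff.2 ⟨⟨a, b, false, false⟩, ?_⟩
  ext <;> simp [act1, act2] <;> ring

/-- Commutators lie in the abelian subgroup, with even first coordinate. -/
theorem commutator_even (a b : Mdl (4 * k)) :
    (a * b * a⁻¹ * b⁻¹).i = false ∧ (a * b * a⁻¹ * b⁻¹).j = false ∧ par k (a * b * a⁻¹ * b⁻¹).p = 0 := by
  obtain ⟨r, s, i, j⟩ := a
  obtain ⟨p, q, i', j'⟩ := b
  cases i <;> cases j <;> cases i' <;> cases j' <;>
    simp [act1, act2] <;>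
    generalize par k r = a <;> generalize par k p = t <;> revert a t <;> decide

/-- An involution of the abelian subgroup. -/
theorem abelian_involution {x : Mdl (4 * k)} (hi : x.i = false) (hj : x.j = false) (hx : x * x = 1)
    (hx1 : x ≠ 1) : x = zE k ∨ IsConj x (eE k) := by
  obtain ⟨p, q, i, j⟩ := x
  simp only at hi hj
  subst hi hj
  have ep := congrArg Mdl.p hx
  have eq' := congrArg Mdl.q hx
  simp only [mul_mk, one_p, one_q, act1, act2, cond_false] at ep eq'
  rcases two_mul_eq_zero (x := p) (by rw [two_mul]; exact ep) with rfl | rfl <;>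
    rcases two_mul_eq_zero (x := q) (by rw [two_mul]; exact eq') with rfl | rfl
  · exact absurd rfl hx1
  · exact Or.inl rfl
  · exact Or.inr (IsConj.refl _)
  · refine Or.inr (isConj_iff.2 ⟨vE k, ?_⟩)
    have h2 : hh k + hh k = 0 := by rw [← two_mul]; exact two_hh
    ext <;> simp [eE, vE, act1, act2, neg_hh, sub_eq_add_neg, h2]

/-! ### Centralizers -/

theorem card_cent_uv_le (w : Mdl (4 * k)) (hi : w.i = true) (hj : w.j = true) :
    Nat.card {x : Mdl (4 * k) // x * w = w * x} ≤ 16 := by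
  obtain ⟨p, q, i, j⟩ := w
  simp only at hi hj
  subst hi hj
  let T := {a : ZMod (4 * k) // a = 0 ∨ a = hh k}
  have : Nat.card T ≤ 2 := by
    let f : Bool → T := fun b => bif b then ⟨hh k, Or.inr rfl⟩ else ⟨0, Or.inl rfl⟩
    have hf : Function.Surjective f := by
      rintro ⟨a, rfl | rfl⟩
      exacts [⟨false, rfl⟩, ⟨true, rfl⟩]
    simpa [Nat.card_eq_fintype_card] using Nat.card_le_card_of_surjective f hf
  have key : ∀ x y : Mdl (4 * k), x * ⟨p, q, true, true⟩ = ⟨p, q, true, true⟩ * x →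
      y * ⟨p, q, true, true⟩ = ⟨p, q, true, true⟩ * y → x.i = y.i → x.j = y.j →
      2 * (x.p - y.p) = 0 ∧ 2 * (x.q - y.q) = 0 := by
    rintro ⟨a, b, i, j⟩ ⟨a', b', i', j'⟩ hx hy e1 e2
    simp only at e1 e2
    subst e1 e2
    have hx1 := congrArg Mdl.p hx
    have hx2 := congrArg Mdl.q hx
    have hy1 := congrArg Mdl.p hy
    have hy2 := congrArg Mdl.q hy
    cases i <;> cases j <;> simp [act1, act2] at hx1 hx2 hy1 hy2 <;>
      exact ⟨by linear_combination hx1 - hy1, by linear_combination hx2 - hy2⟩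
  classical
  -- a representative in every occurring component
  let C := {x : Mdl (4 * k) // x * ⟨p, q, true, true⟩ = ⟨p, q, true, true⟩ * x}
  have rep : ∀ s : Bool × Bool, ∃ y : Mdl (4 * k), ∀ x : C, (x.1.i, x.1.j) = s →
      y * ⟨p, q, true, true⟩ = ⟨p, q, true, true⟩ * y ∧ (y.i, y.j) = s := by
    intro s
    by_cases h : ∃ x : C, (x.1.i, x.1.j) = s
    · obtain ⟨x, hx⟩ := h
      exact ⟨x.1, fun _ _ => ⟨x.2, hx⟩⟩
    · exact ⟨1, fun x hx => absurd ⟨x, hx⟩ h⟩
  choose y hy using rep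
  have hd : ∀ x : C, (x.1.p - (y (x.1.i, x.1.j)).p = 0 ∨ x.1.p - (y (x.1.i, x.1.j)).p = hh k) ∧
      (x.1.q - (y (x.1.i, x.1.j)).q = 0 ∨ x.1.q - (y (x.1.i, x.1.j)).q = hh k) := fun x => by
    obtain ⟨h1, h2⟩ := hy _ x rfl
    obtain ⟨k1, k2⟩ := key x.1 _ x.2 h1 (congrArg Prod.fst h2).symm (congrArg Prod.snd h2).symm
    exact ⟨two_mul_eq_zero k1, two_mul_eq_zero k2⟩
  let g : C → (Bool × Bool) × T × T := fun x => ((x.1.i, x.1.j), ⟨_, (hd x).1⟩, ⟨_, (hd x).2⟩)
  have hg : Function.Injective g := by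
    intro x x' e
    have e3 : x.1.p - (y (x.1.i, x.1.j)).p = x'.1.p - (y (x'.1.i, x'.1.j)).p :=
      congrArg (fun s => s.2.1.1) e
    have e4 : x.1.q - (y (x.1.i, x.1.j)).q = x'.1.q - (y (x'.1.i, x'.1.j)).q :=
      congrArg (fun s => s.2.2.1) e
    have e1 : x.1.i = x'.1.i := congrArg (fun s => s.1.1) e
    have e2 : x.1.j = x'.1.j := congrArg (fun s => s.1.2) e
    rw [e1, e2] at e3 e4
    exact Subtype.ext (Mdl.ext (sub_left_inj.1 e3) (sub_left_inj.1 e4) e1 e2)
  refine (Nat.card_le_card_of_injective g hg).trans ?_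
  rw [Nat.card_prod, Nat.card_prod, Nat.card_prod]
  have hB : Nat.card Bool = 2 := by simp [Nat.card_eq_fintype_card]
  rw [hB]
  nlinarith

theorem mem_cent_uE {x : Mdl (4 * k)} : x * uE k = uE k * x ↔ x.p = 0 := by
  obtain ⟨p, q, i, j⟩ := x
  cases i <;> cases j <;> simp [Mdl.ext_iff, uE, act1, act2] <;> intro h <;> simp [h]

theorem card_cent_uE : Nat.card {x : Mdl (4 * k) // x * uE k = uE k * x} = 16 * k := by
  have e : {x : Mdl (4 * k) // x * uE k = uE k * x} ≃ ZMod (4 * k) × (Bool × Bool) :=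
    { toFun := fun x => (x.1.q, x.1.i, x.1.j)
      invFun := fun s => ⟨⟨0, s.1, s.2.1, s.2.2⟩, mem_cent_uE.2 rfl⟩
      left_inv := fun x => Subtype.ext (Mdl.ext (mem_cent_uE.1 x.2).symm rfl rfl rfl)
      right_inv := fun _ => rfl }
  rw [Nat.card_congr e]
  simp [Nat.card_eq_fintype_card]
  ring

theorem card_cent_vE : Nat.card {x : Mdl (4 * k) // x * vE k = vE k * x} = 16 * k := by
  have hc : ∀ x : Mdl (4 * k), x * vE k = vE k * x ↔ x.p = -2 * x.q := by
    rintro ⟨p, q, i, j⟩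
    cases i <;> cases j <;> simp [Mdl.ext_iff, vE, act1, act2] <;>
      constructor <;> intro h <;> linear_combination h
  have e : {x : Mdl (4 * k) // x * vE k = vE k * x} ≃ ZMod (4 * k) × (Bool × Bool) :=
    { toFun := fun x => (x.1.q, x.1.i, x.1.j)
      invFun := fun s => ⟨⟨-2 * s.1, s.1, s.2.1, s.2.2⟩, (hc _).2 rfl⟩
      left_inv := fun x => Subtype.ext (Mdl.ext ((hc _).1 x.2).symm rfl rfl rfl)
      right_inv := fun _ => rfl }
  rw [Nat.card_congr e]
  simp [Nat.card_eq_fintype_card]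
  ring

/-- The central involution as a commutator inside the centralizers of `u`, `v`, `w0`, `w1`. -/
theorem zE_commutator (w : Mdl (4 * k)) (hw : w = uE k ∨ w = vE k ∨ w = w0 k ∨ w = w1 k) :
    ∃ a b : Mdl (4 * k), a * w = w * a ∧ b * w = w * b ∧ zE k = a * b * a⁻¹ * b⁻¹ := by
  have h2 : hh k + hh k = 0 := by rw [← two_mul]; exact two_hh
  rcases hw with rfl | rfl | rfl | rfl
  · refine ⟨⟨0, kk k, false, false⟩, vE k, ?_, ?_, ?_⟩ <;>
      ext <;> simp [zE, uE, vE, act1, act2] <;>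
      (try rw [← two_kk]) <;> (try ring)
  · refine ⟨uE k, ⟨hh k, -kk k, false, false⟩, ?_, ?_, ?_⟩ <;>
      ext <;> simp [zE, uE, vE, act1, act2, neg_hh, h2]
    all_goals (have := two_kk (k := k); grind)
  · refine ⟨uE k, eE k, ?_, ?_, ?_⟩ <;>
      ext <;> simp [zE, uE, eE, w0, act1, act2, neg_hh, h2]
  · refine ⟨uE k, eE k, ?_, ?_, ?_⟩ <;>
      ext <;> simp [zE, uE, eE, w1, act1, act2, neg_hh, h2]

/-! ### Faithfulness -/

theorem val_hh : (hh k).val = 2 * k :=
  ZMod.val_natCast_of_lt (by have := NeZero.pos k; omega)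

/-- A homomorphism not killing `z` is injective. -/
theorem injective_of_zE {G : Type*} [Group G] {ι : Mdl (4 * k) →* G} (hz : ι (zE k) ≠ 1) {e : ℕ}
    (hk : k = 2 ^ e) : Function.Injective ι := by
  haveI : Fact (Nat.Prime 2) := ⟨Nat.prime_two⟩
  let A : Subgroup (Mdl (4 * k)) :=
    { carrier := {x | x.i = false ∧ x.j = false}
      one_mem' := ⟨rfl, rfl⟩
      mul_mem' := fun {a b} ha hb => ⟨show xor a.i b.i = false by rw [ha.1, hb.1]; rfl,
        show xor a.j b.j = false by rw [ha.2, hb.2]; rfl⟩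
      inv_mem' := fun {a} ha => ha }
  have hA : ∀ x ∈ ι.ker, x ∈ A → x = 1 := by
    by_contra hcon
    push Not at hcon
    obtain ⟨x, hx, hxA, hx1⟩ := hcon
    have hp : IsPGroup 2 (Mdl (4 * k)) := IsPGroup.of_card (n := 2 * e + 6) (by
      rw [card_eq, hk, show 4 * (4 * 2 ^ e) ^ 2 = 2 ^ (2 * e + 6) by rw [pow_add, pow_mul']; ring])
    have hne : (ι.ker ⊓ A) ≠ ⊥ := fun h => hx1 (by
      have : x ∈ ι.ker ⊓ A := ⟨hx, hxA⟩
      rwa [h, Subgroup.mem_bot] at this)
    have hd : 2 ∣ Nat.card ↥(ι.ker ⊓ A) := by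
      obtain ⟨n, hn⟩ := IsPGroup.iff_card.1 (hp.to_subgroup (ι.ker ⊓ A))
      rcases Nat.eq_zero_or_pos n with rfl | hn0
      · exact absurd (Subgroup.eq_bot_of_card_eq _ hn) hne
      · rw [hn]; exact dvd_pow_self 2 hn0.ne'
    obtain ⟨⟨y, hy, hyA⟩, ho⟩ := exists_prime_orderOf_dvd_card' 2 hd
    rw [← Subgroup.orderOf_coe] at ho
    have hy2 : y * y = 1 := by rw [← pow_two, ← ho]; exact pow_orderOf_eq_one y
    have hy1 : y ≠ 1 := fun h => by simp [h] at ho
    rcases abelian_involution hyA.1 hyA.2 hy2 hy1 with rfl | h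
    · exact hz hy
    · obtain ⟨t, ht⟩ := isConj_iff.1 h
      have hE : ι (eE k) = 1 := by
        rw [← ht, map_mul, map_mul, map_inv, MonoidHom.mem_ker.1 hy, mul_one, mul_inv_cancel]
      have hz' : zE k = uE k * eE k * (uE k)⁻¹ * (eE k)⁻¹ := by
        ext <;> simp [zE, uE, eE, act1, act2, neg_hh]
        all_goals (rw [← two_mul]; exact two_hh.symm)
      exact hz (by rw [hz', map_mul, map_mul, map_mul, map_inv, map_inv, hE]; group)
  refine (MonoidHom.ker_eq_bot_iff ι).1 ((Subgroup.eq_bot_iff_forall _).2 fun x hx => hA x hx ?_)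
  by_contra hxA
  let a : Mdl (4 * k) := ⟨1, 0, false, false⟩
  have hy : x * a * x⁻¹ * a⁻¹ ∈ ι.ker := by
    rw [MonoidHom.mem_ker, map_mul, map_mul, map_mul, map_inv, MonoidHom.mem_ker.1 hx, map_inv]
    group
  have hyA : x * a * x⁻¹ * a⁻¹ ∈ A := ⟨(commutator_even x a).1, (commutator_even x a).2.1⟩
  have := hA _ hy hyA
  obtain ⟨p, q, i, j⟩ := x
  haveI : Fact (1 < 4 * k) := ⟨by have := NeZero.pos k; omega⟩
  have h2 : (2 : ZMod (4 * k)) ≠ 0 := fun h => by
    have h' : ((2 : ℕ) : ZMod (4 * k)) = 0 := by simpa using h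
    have := Nat.le_of_dvd two_pos ((ZMod.natCast_eq_zero_iff _ _).1 h')
    have := NeZero.pos k
    omega
  cases i <;> cases j
  · exact hxA ⟨rfl, rfl⟩
  all_goals
    have e1 := congrArg Mdl.p this
    have e2 := congrArg Mdl.q this
    simp [a, act1, act2] at e1 e2
    try exact h2 (by linear_combination -e1)

end Cfsg.Agent.G2Type.Mdl
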