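import Cfsg.Prelude.Def_TwoFusion
import Cfsg.Agent.Lib.G2Type.Classes
import Cfsg.Agent.Lib.Involutions.ThompsonTransfer
import Cfsg.Agent.Lib.ZStar.Main

/-!
# Involution fusion with a Sylow 2-subgroup of type `G₂(q)`

Thompson transfer leaves every involution conjugate to `z` or to `u`; Glauberman's theorem gives
`z ∼ e`; and for `8 ≤ N` a second class would force `e` into it.
-/

set_option autoImplicit false

namespace Cfsg.Agent.G2Type.Fusion

open Mdl

variable {G : Type*} [Group G] [Finite G] {k : ℕ} [NeZero k]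

theorem orderOf_eq {x : G} (h1 : x ≠ 1) (h2 : x * x = 1) : orderOf x = 2 :=
  orderOf_eq_prime (by rw [pow_two, h2]) h1

theorem sq_of_orderOf {x : G} (h : orderOf x = 2) : x * x = 1 ∧ x ≠ 1 :=
  ⟨by rw [← pow_two, ← h, pow_orderOf_eq_one], fun e => by rw [e, orderOf_one] at h; norm_num at h⟩

variable (ι : Mdl (4 * k) →* G) (S : Sylow 2 G)

/-- Conjugacy in `G` of two elements of the model. -/
def Cj (x y : Mdl (4 * k)) : Prop := IsConj (ι x) (ι y)

theorem cj_refl (x : Mdl (4 * k)) : Cj ι x x := IsConj.refl _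

variable {ι} in
theorem Cj.symm {x y : Mdl (4 * k)} (h : Cj ι x y) : Cj ι y x := IsConj.symm h

variable {ι} in
theorem Cj.trans {x y z : Mdl (4 * k)} (h : Cj ι x y) (h' : Cj ι y z) : Cj ι x z := IsConj.trans h h'

theorem cj_of_isConj {x y : Mdl (4 * k)} (h : IsConj x y) : Cj ι x y := ι.map_isConj h

/-- A 2-subgroup centralizing a conjugate of `ι z`: the conjugation can carry it into `S`. -/
theorem shift (hr : ι.range = (S : Subgroup G)) {w : Mdl (4 * k)} {x : G} (hwx : IsConj (ι w) x)
    (P : Subgroup G) (hP : IsPGroup 2 P) (hPw : ∀ a ∈ P, a * ι w = ι w * a) (R : Sylow 2 (Subgroup.centralizer ({x} : Set G))) :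
    ∃ g : G, g * ι w * g⁻¹ = x ∧ ∀ a ∈ P, g * a * g⁻¹ ∈ (R : Subgroup (Subgroup.centralizer ({x} : Set G))).map (Subgroup.subtype _) := by
  obtain ⟨g₀, hg₀⟩ := isConj_iff.1 hwx
  have hmem : ∀ a ∈ P, g₀ * a * g₀⁻¹ ∈ Subgroup.centralizer ({x} : Set G) := fun a ha => by
    rw [Subgroup.mem_centralizer_singleton_iff, ← hg₀]
    calc g₀ * a * g₀⁻¹ * (g₀ * ι w * g₀⁻¹) = g₀ * (a * ι w) * g₀⁻¹ := by group
      _ = g₀ * (ι w * a) * g₀⁻¹ := by rw [hPw a ha]
      _ = _ := by group
  let f : P →* Subgroup.centralizer ({x} : Set G) :=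
    { toFun := fun a => ⟨g₀ * a * g₀⁻¹, hmem a a.2⟩
      map_one' := Subtype.ext (by simp)
      map_mul' := fun a b => Subtype.ext (by simp [mul_assoc]) }
  have hf : IsPGroup 2 f.range := hP.of_surjective f.rangeRestrict f.rangeRestrict_surjective
  obtain ⟨Q, hQ⟩ := hf.exists_le_sylow
  haveI : Fact (Nat.Prime 2) := ⟨Nat.prime_two⟩
  obtain ⟨c, hc⟩ := MulAction.exists_smul_eq (Subgroup.centralizer ({x} : Set G)) Q R
  refine ⟨(c : G) * g₀, ?_, fun a ha => ?_⟩
  · rw [show (c : G) * g₀ * ι w * ((c : G) * g₀)⁻¹ = (c : G) * (g₀ * ι w * g₀⁻¹) * (c : G)⁻¹ by group,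
      hg₀, mul_inv_eq_iff_eq_mul]
    exact Subgroup.mem_centralizer_singleton_iff.1 c.2
  · refine ⟨c * f ⟨a, ha⟩ * c⁻¹, ?_, ?_⟩
    · have := Subgroup.smul_mem_pointwise_smul (f ⟨a, ha⟩) (MulAut.conj c) _ (hQ ⟨⟨a, ha⟩, rfl⟩)
      exact (congrArg (fun P : Sylow 2 (Subgroup.centralizer ({x} : Set G)) => c * f ⟨a, ha⟩ * c⁻¹ ∈ (P : Subgroup (Subgroup.centralizer ({x} : Set G)))) hc).mp this
    · simp [f, mul_assoc]

theorem range_pgroup (hr : ι.range = (S : Subgroup G)) (H : Subgroup (Mdl (4 * k))) :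
    IsPGroup 2 (H.map ι) := by
  refine S.2.to_le ?_
  rw [← hr]
  rintro x ⟨a, -, rfl⟩
  exact ⟨a, rfl⟩

/-- Conjugating to the central involution, inside `S`. -/
theorem to_z (hr : ι.range = (S : Subgroup G)) {w : Mdl (4 * k)} (h : Cj ι w (zE k)) :
    ∃ (g : G) (φ : Mdl (4 * k) → Mdl (4 * k)), g * ι w * g⁻¹ = ι (zE k) ∧
      ∀ a, a * w = w * a → g * ι a * g⁻¹ = ι (φ a) := by
  haveI : Fact (Nat.Prime 2) := ⟨Nat.prime_two⟩
  set C := Subgroup.centralizer ({ι (zE k)} : Set G) with hC
  have hSC : (S : Subgroup G) ≤ C := by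
    rw [← hr]
    rintro _ ⟨a, rfl⟩
    rw [hC, Subgroup.mem_centralizer_singleton_iff, ← map_mul, ← map_mul, zE_central]
  obtain ⟨g, hg, hgR⟩ := shift ι S hr h ((Subgroup.centralizer ({w} : Set _)).map ι)
    (range_pgroup ι S hr _) (by
      rintro _ ⟨a, ha, rfl⟩
      rw [← map_mul, ← map_mul, Subgroup.mem_centralizer_singleton_iff.1 ha]) (S.subtype hSC)
  have hφ : ∀ a, ∃ b, a * w = w * a → g * ι a * g⁻¹ = ι b := fun a => by
    by_cases ha : a * w = w * a
    · obtain ⟨⟨y, hy⟩, hyR, hyg⟩ := hgR (ι a)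
        ⟨a, Subgroup.mem_centralizer_singleton_iff.2 ha, rfl⟩
      have hyS : y ∈ (S : Subgroup G) := hyR
      rw [← hr] at hyS
      obtain ⟨b, hb⟩ := hyS
      exact ⟨b, fun _ => hyg.symm.trans hb.symm⟩
    · exact ⟨1, fun h => absurd h ha⟩
  choose φ hφ using hφ
  exact ⟨g, φ, hg, hφ⟩

section

variable (hr : ι.range = (S : Subgroup G)) (hi : Function.Injective ι)
include hr hi

omit hr in
theorem orderOf_two {x : Mdl (4 * k)} (h1 : x ≠ 1) (h2 : x * x = 1) : orderOf (ι x) = 2 :=
  orderOf_eq (fun h => h1 (hi (h.trans (map_one ι).symm))) (by rw [← map_mul, h2, map_one])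

/-- An element taken to `z` moves `z` to a non-central involution when `z` is a commutator in its
centralizer. -/
theorem e_of_z {w : Mdl (4 * k)} (hw : w = uE k ∨ w = vE k ∨ w = w0 k ∨ w = w1 k) {g : G}
    {φ : Mdl (4 * k) → Mdl (4 * k)} (hg : g * ι w * g⁻¹ = ι (zE k))
    (hφ : ∀ a, a * w = w * a → g * ι a * g⁻¹ = ι (φ a)) : IsConj (φ (zE k)) (eE k) := by
  obtain ⟨a, b, ha, hb, hz⟩ := zE_commutator w hw
  have hzc := hφ (zE k) (zE_central w)
  have e : φ (zE k) = φ a * φ b * (φ a)⁻¹ * (φ b)⁻¹ := hi (by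
    rw [← hzc, hz, map_mul ι (φ a * φ b * (φ a)⁻¹), map_mul ι (φ a * φ b), map_mul ι (φ a),
      map_inv, map_inv, ← hφ a ha, ← hφ b hb]
    simp [mul_assoc])
  have hne : φ (zE k) ≠ zE k := fun h => by
    rw [h] at hzc
    have := hi (mul_left_cancel (mul_right_cancel (hzc.trans hg.symm)))
    rcases hw with rfl | rfl | rfl | rfl <;> simp [zE, uE, vE, w0, w1] at this
  have h1 : φ (zE k) ≠ 1 := fun h => by
    rw [h, map_one, conj_eq_one_iff] at hzc
    exact zE_ne (hi (hzc.trans (map_one ι).symm))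
  have h2 : φ (zE k) * φ (zE k) = 1 := hi (by
    rw [map_mul, ← hzc, map_one, ← map_one (MulAut.conj g), ← map_one ι, ← zE_sq (k := k), map_mul ι]
    simp [mul_assoc])
  have hc := commutator_even (φ a) (φ b)
  rw [← e] at hc
  rcases abelian_involution hc.1 hc.2.1 h2 h1 with h | h
  · exact absurd h hne
  · exact h

variable (hs : IsSimpleGroup G)
include hs

theorem no_index_two : ∀ H : Subgroup G, H.index ≠ 2 := by
  intro H hH
  haveI := hs
  haveI := Subgroup.normal_of_index_eq_two hH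
  rcases IsSimpleGroup.eq_bot_or_eq_top_of_normal H inferInstance with h | h
  · rw [h, Subgroup.index_bot] at hH
    have := Nat.card_le_card_of_injective ι hi
    rw [card_eq, hH] at this
    have := NeZero.pos k
    nlinarith
  · rw [h, Subgroup.index_top] at hH
    norm_num at hH

/-- Thompson transfer along a hyperplane. -/
theorem transfer (M : Subgroup (Mdl (4 * k))) (hM : M.index = 2) {x : Mdl (4 * k)} (hx1 : x ≠ 1)
    (hx : x * x = 1) : ∃ y ∈ M, y * y = 1 ∧ y ≠ 1 ∧ Cj ι x y := by
  have hle : M.map ι ≤ (S : Subgroup G) := hr ▸ Subgroup.map_le_range ι M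
  have hrel : (M.map ι).relIndex (S : Subgroup G) = 2 := by
    rw [← hr, MonoidHom.range_eq_map, Subgroup.relIndex_map_map_of_injective _ _ hi,
      Subgroup.relIndex_top_right, hM]
  obtain ⟨g, y, hy, hyg⟩ := Cfsg.Agent.Involutions.ThompsonTransfer.exists_conj_mem
    (no_index_two ι S hr hi hs) S _ hle hrel (ι x) (orderOf_two ι hi hx1 hx)
  refine ⟨y, hy, hi ?_, fun h => ?_, isConj_iff.2 ⟨g, hyg.symm⟩⟩
  · rw [map_mul, hyg, map_one]
    calc g * ι x * g⁻¹ * (g * ι x * g⁻¹) = g * (ι x * ι x) * g⁻¹ := by group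
      _ = 1 := by rw [← map_mul, hx, map_one]; group
  · rw [h, map_one, eq_comm, conj_eq_one_iff] at hyg
    exact hx1 (hi (hyg.trans (map_one ι).symm))

theorem transfer_i {x : Mdl (4 * k)} (hx1 : x ≠ 1) (hx : x * x = 1) :
    Cj ι x (zE k) ∨ Cj ι x (eE k) ∨ Cj ι x (vE k) := by
  let M : Subgroup (Mdl (4 * k)) :=
    { carrier := {a | a.i = false}
      one_mem' := rfl
      mul_mem' := fun {a b} (ha : a.i = false) (hb : b.i = false) => show xor a.i b.i = false by rw [ha, hb]; rfl
      inv_mem' := fun {a} (ha : a.i = false) => show a.i = false from ha }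
  have hM : M.index = 2 := Subgroup.index_eq_two_iff.2 ⟨uE k, fun b => by
    rcases hb : b.i with _ | _
    · exact Or.inr ⟨hb, fun h => by have h' : (b * uE k).i = false := h; simp [uE, show (b * ⟨0, 0, true, false⟩).i = xor b.i true from rfl, hb] at h'⟩
    · exact Or.inl ⟨show xor b.i true = false by rw [hb]; rfl, fun h => by have h' : b.i = false := h; simp [hb] at h'⟩⟩
  obtain ⟨y, hy, hy2, hy1, hc⟩ := transfer ι S hr hi hs M hM hx1 hx
  obtain ⟨p, q, i, j⟩ := y
  change i = false at hy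
  subst hy
  rcases involution_cases hy2 hy1 with h | h | h | h | h | h | h
  · exact Or.inl (hc.trans (cj_of_isConj ι h))
  · exact Or.inr (Or.inl (hc.trans (cj_of_isConj ι h)))
  all_goals obtain ⟨g, hg⟩ := isConj_iff.1 h
  · exfalso
    have := congrArg Mdl.i hg
    obtain ⟨a, b, c, d⟩ := g
    simp [uE] at this
  · exact Or.inr (Or.inr (hc.trans (cj_of_isConj ι h)))
  all_goals
    exfalso
    have := congrArg Mdl.i hg
    obtain ⟨a, b, c, d⟩ := g
    simp [w0, w1, w2] at this

theorem transfer_j {x : Mdl (4 * k)} (hx1 : x ≠ 1) (hx : x * x = 1) :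
    Cj ι x (zE k) ∨ Cj ι x (eE k) ∨ Cj ι x (uE k) := by
  let M : Subgroup (Mdl (4 * k)) :=
    { carrier := {a | a.j = false}
      one_mem' := rfl
      mul_mem' := fun {a b} (ha : a.j = false) (hb : b.j = false) => show xor a.j b.j = false by rw [ha, hb]; rfl
      inv_mem' := fun {a} (ha : a.j = false) => show a.j = false from ha }
  have hM : M.index = 2 := Subgroup.index_eq_two_iff.2 ⟨vE k, fun b => by
    rcases hb : b.j with _ | _
    · exact Or.inr ⟨hb, fun h => by have h' : xor b.j true = false := h; simp [hb] at h'⟩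
    · exact Or.inl ⟨show xor b.j true = false by rw [hb]; rfl, fun h => by have h' : b.j = false := h; simp [hb] at h'⟩⟩
  obtain ⟨y, hy, hy2, hy1, hc⟩ := transfer ι S hr hi hs M hM hx1 hx
  obtain ⟨p, q, i, j⟩ := y
  change j = false at hy
  subst hy
  rcases involution_cases hy2 hy1 with h | h | h | h | h | h | h
  · exact Or.inl (hc.trans (cj_of_isConj ι h))
  · exact Or.inr (Or.inl (hc.trans (cj_of_isConj ι h)))
  · exact Or.inr (Or.inr (hc.trans (cj_of_isConj ι h)))
  all_goals
    obtain ⟨g, hg⟩ := isConj_iff.1 h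
    exfalso
    have := congrArg Mdl.j hg
    obtain ⟨a, b, c, d⟩ := g
    simp [vE, w0, w1, w2] at this

/-- `z` and `e` are conjugate. -/
theorem z_e : Cj ι (zE k) (eE k) := by
  by_contra hne
  -- none of `u, v, w0, w1` is conjugate to `z`
  have h4 : ∀ w, (w = uE k ∨ w = vE k ∨ w = w0 k ∨ w = w1 k) → ¬ Cj ι w (zE k) := by
    intro w hw h
    obtain ⟨g, φ, hg, hφ⟩ := to_z ι S hr h
    refine hne (Cj.trans ?_ (cj_of_isConj ι (e_of_z ι S hr hi hw hg hφ)))
    exact isConj_iff.2 ⟨g, hφ _ (zE_central w)⟩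
  -- conjugates of `z` in `S` other than `z` have odd first coordinate
  have hcl : ∀ x, Cj ι x (zE k) → x = zE k ∨ IsConj x (w2 k) := by
    intro x h
    have hx1 : x ≠ 1 := fun e => by
      obtain ⟨g, hg⟩ := isConj_iff.1 h
      rw [e, map_one, mul_one, mul_inv_cancel] at hg
      exact zE_ne (hi (hg.symm.trans (map_one ι).symm))
    have hx : x * x = 1 := hi (by
      obtain ⟨g, hg⟩ := isConj_iff.1 (Cj.symm h)
      rw [map_mul, ← hg, map_one]
      calc g * ι (zE k) * g⁻¹ * (g * ι (zE k) * g⁻¹) = g * (ι (zE k) * ι (zE k)) * g⁻¹ := by group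
        _ = 1 := by rw [← map_mul, zE_sq, map_one]; group)
    rcases involution_cases hx hx1 with hc | hc | hc | hc | hc | hc | hc
    · left
      obtain ⟨g, hg⟩ := isConj_iff.1 hc
      rwa [← mul_left_inj g, mul_assoc, inv_mul_cancel, mul_one, zE_central, mul_right_inj] at hg
    · exact absurd ((Cj.symm h).trans (cj_of_isConj ι hc)) hne
    · exact absurd ((cj_of_isConj ι hc).symm.trans h) (h4 _ (Or.inl rfl))
    · exact absurd ((cj_of_isConj ι hc).symm.trans h) (h4 _ (Or.inr (Or.inl rfl)))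
    · exact absurd ((cj_of_isConj ι hc).symm.trans h) (h4 _ (Or.inr (Or.inr (Or.inl rfl))))
    · exact absurd ((cj_of_isConj ι hc).symm.trans h) (h4 _ (Or.inr (Or.inr (Or.inr rfl))))
    · exact Or.inr hc
  have hw2 : ¬ Cj ι (w2 k) (zE k) := by
    intro h
    obtain ⟨g, φ, hg, hφ⟩ := to_z ι S hr h
    have hz : zE k * w2 k = w2 k * zE k := zE_central _
    have he : eE k * w2 k = w2 k * eE k := by ext <;> simp [eE, w2, act1, act2, neg_hh, add_comm]
    have hez : eE k * zE k * w2 k = w2 k * (eE k * zE k) := by rw [mul_assoc, hz, ← mul_assoc, he, mul_assoc]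
    have hmul : φ (eE k * zE k) = φ (eE k) * φ (zE k) := hi (by
      rw [map_mul ι (φ _), ← hφ _ hez, ← hφ _ he, ← hφ _ hz, map_mul]; group)
    have hz1 : par k (φ (zE k)).p = 1 := by
      rcases hcl _ (isConj_iff.2 ⟨g⁻¹, by rw [← hφ _ hz]; group⟩) with e | e
      · exfalso
        have := hφ _ hz
        rw [e] at this
        have := hi (mul_left_cancel (mul_right_cancel (this.trans hg.symm)))
        simp [zE, w2] at this
      · rw [par_p_of_isConj e]; simp [w2]
    have heven : ∀ a, a * w2 k = w2 k * a → a * a = 1 → a ≠ 1 → Cj ι a (eE k) →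
        par k (φ a).p = 0 := by
      intro a ha ha2 ha1 hae
      have hae' : Cj ι (φ a) (eE k) := (isConj_iff.2 ⟨g⁻¹, by rw [← hφ _ ha]; group⟩ : IsConj (ι (φ a)) (ι a)).trans hae
      have hb1 : φ a ≠ 1 := fun e => by
        have := hφ _ ha
        rw [e, map_one, conj_eq_one_iff] at this
        exact ha1 (hi (this.trans (map_one ι).symm))
      have hb2 : φ a * φ a = 1 := hi (by
        rw [map_mul, ← hφ _ ha, map_one]
        calc g * ι a * g⁻¹ * (g * ι a * g⁻¹) = g * (ι a * ι a) * g⁻¹ := by group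
          _ = 1 := by rw [← map_mul, ha2, map_one]; group)
      rcases involution_cases hb2 hb1 with hc | hc | hc | hc | hc | hc | hc
      all_goals first
        | (rw [par_p_of_isConj hc]; simp [zE, eE, uE, vE, w0, w1, par_hh]; done)
        | exact absurd ((Cj.symm h).trans ((cj_of_isConj ι hc).symm.trans hae')) hne
    have h1 := heven _ he eE_sq eE_ne (cj_refl ι _)
    have h2 := heven _ hez (by ext <;> simp [eE, zE, act1, act2, one_def] <;> (rw [← two_mul]; exact two_hh))
      (fun e => hh_ne (k := k) (by simpa [eE, zE, act1, act2] using congrArg Mdl.p e))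
      (cj_of_isConj ι (isConj_iff.2 ⟨vE k, by
        have h2 : hh k + hh k = 0 := by rw [← two_mul]; exact two_hh
        ext <;> simp [eE, zE, vE, act1, act2, neg_hh, sub_eq_add_neg, h2]⟩))
    rw [hmul] at h2
    generalize hA : φ (eE k) = A at h1 h2
    generalize hB : φ (zE k) = B at hz1 h2
    obtain ⟨a, b, c, d⟩ := A
    obtain ⟨p, q, r, s⟩ := B
    cases c <;> simp [act1] at h1 h2 hz1 <;> rw [h1, hz1] at h2 <;> exact absurd h2 (by decide)
  -- so `z` is isolated
  have hiso : Cfsg.IsIsolatedInvolution (ι (zE k)) := by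
    refine ⟨orderOf_two ι hi zE_ne zE_sq, fun g hgc => ?_⟩
    haveI : Fact (Nat.Prime 2) := ⟨Nat.prime_two⟩
    set x := g * ι (zE k) * g⁻¹ with hx
    have hxC : x ∈ Subgroup.centralizer ({ι (zE k)} : Set G) :=
      Subgroup.mem_centralizer_singleton_iff.2 hgc.symm.eq
    set C := Subgroup.centralizer ({ι (zE k)} : Set G)
    have hSC : (S : Subgroup G) ≤ C := by
      rw [← hr]
      rintro _ ⟨a, rfl⟩
      rw [Subgroup.mem_centralizer_singleton_iff, ← map_mul, ← map_mul, zE_central]
    have hox : orderOf (⟨x, hxC⟩ : C) = 2 := by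
      rw [← Subgroup.orderOf_coe]
      refine (MulEquiv.orderOf_eq (MulAut.conj g) (ι (zE k))).trans ?_
      exact orderOf_two ι hi zE_ne zE_sq
    obtain ⟨Q, hQ⟩ := (IsPGroup.of_card (n := 1) (by rw [Nat.card_zpowers, hox, pow_one]) :
      IsPGroup 2 (Subgroup.zpowers (⟨x, hxC⟩ : C))).exists_le_sylow
    obtain ⟨c, hc⟩ := MulAction.exists_smul_eq C Q (S.subtype hSC)
    have hm : c * ⟨x, hxC⟩ * c⁻¹ ∈ (c • Q : Sylow 2 C) :=
      Subgroup.smul_mem_pointwise_smul _ _ _ (hQ (Subgroup.mem_zpowers _))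
    rw [hc] at hm
    have hm' : (c : G) * x * (c : G)⁻¹ ∈ (S : Subgroup G) := hm
    rw [← hr] at hm'
    obtain ⟨y, hy⟩ := hm'
    have hyz : Cj ι y (zE k) := by
      refine Cj.symm (isConj_iff.2 ⟨(c : G) * g, ?_⟩)
      rw [hy, hx]; group
    rcases hcl y hyz with rfl | hyw
    · have e := Subgroup.mem_centralizer_singleton_iff.1 c.2
      have : x = (c : G)⁻¹ * ι (zE k) * (c : G) := by rw [hy]; group
      rw [this, mul_assoc, ← e]; group
    · exact absurd ((cj_of_isConj ι hyw).symm.trans hyz) hw2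
  have hO : Cfsg.oddCore G = ⊥ := by
    haveI := hs
    rcases IsSimpleGroup.eq_bot_or_eq_top_of_normal (Cfsg.oddCore G) inferInstance with h | h
    · exact h
    · exfalso
      have hodd := Cfsg.Agent.InvChar.Core.odd_card_oddCore (G := G)
      rw [h, Subgroup.card_top] at hodd
      have hd : 2 ∣ Nat.card G := by
        rw [← orderOf_two ι hi zE_ne (zE_sq (k := k))]
        exact orderOf_dvd_natCard _
      exact Nat.not_even_iff_odd.2 hodd (even_iff_two_dvd.2 hd)
  have hcen := Cfsg.Agent.ZStar.Main.mem_center_of_isolated hO hiso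
  -- but then the simple group is abelian, and `u` is central
  have hz1 : ι (zE k) ≠ 1 := fun h => zE_ne (hi (h.trans (map_one ι).symm))
  haveI := hs
  rcases IsSimpleGroup.eq_bot_or_eq_top_of_normal (Subgroup.center G) inferInstance with h | h
  · rw [h, Subgroup.mem_bot] at hcen
    exact hz1 hcen
  · have hc : ι (uE k) ∈ Subgroup.center G := h ▸ Subgroup.mem_top _
    have := hi (show ι (eE k * uE k) = ι (uE k * eE k) by
      rw [map_mul, map_mul, Subgroup.mem_center_iff.1 hc])
    exact hh_ne (k := k) (by simpa [eE, uE, act1, act2] using (congrArg Mdl.q this).symm)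

/-- Every involution of the model is conjugate to `z` or to `u`. -/
theorem two_classes {x : Mdl (4 * k)} (hx1 : x ≠ 1) (hx : x * x = 1) :
    Cj ι x (zE k) ∨ Cj ι x (uE k) := by
  rcases transfer_j ι S hr hi hs hx1 hx with h | h | h
  · exact Or.inl h
  · exact Or.inl (h.trans (z_e ι S hr hi hs).symm)
  · exact Or.inr h

/-- Above order 64 there is one class. -/
theorem u_z (hk : Even k) : Cj ι (uE k) (zE k) := by
  by_contra hne
  have hze := z_e ι S hr hi hs
  have huv : Cj ι (uE k) (vE k) := by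
    rcases transfer_i ι S hr hi hs (ne_one_of_i (x := uE k) rfl) (by ext <;> simp [uE, act1, act2, one_def])
      with h | h | h
    · exact absurd h hne
    · exact absurd (h.trans hze.symm) hne
    · exact h
  -- neither `w0` nor `w1` is conjugate to `z`
  have hw : ∀ w, (w = w0 k ∨ w = w1 k) → Cj ι w (uE k) := by
    intro w hw
    rcases two_classes ι S hr hi hs (x := w) (ne_one_of_i (by rcases hw with rfl | rfl <;> rfl))
      (by rcases hw with rfl | rfl <;> ext <;> simp [w0, w1, act1, act2, one_def]) with h | h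
    swap
    · exact h
    exfalso
    obtain ⟨g, φ, hg, hφ⟩ := to_z ι S hr h
    have hu : uE k * w = w * uE k := by
      rcases hw with rfl | rfl <;> ext <;> simp [uE, w0, w1, act1, act2]
    have he : eE k * w = w * eE k := by
      rcases hw with rfl | rfl <;> ext <;> simp [eE, w0, w1, act1, act2, neg_hh, add_comm]
    have hz : zE k * w = w * zE k := zE_central _
    have hzz := e_of_z ι S hr hi (by rcases hw with rfl | rfl <;> simp) hg hφ
    have m : ∀ a b, a * w = w * a → b * w = w * b → φ (a * b) = φ a * φ b := fun a b ha hb => hi (by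
      rw [map_mul ι (φ a), ← hφ _ ha, ← hφ _ hb,
        ← hφ _ (show a * b * w = w * (a * b) by rw [mul_assoc, hb, ← mul_assoc, ha, mul_assoc]), map_mul]
      group)
    have hue : uE k * eE k * w = w * (uE k * eE k) := by rw [mul_assoc, he, ← mul_assoc, hu, mul_assoc]
    -- `x = (u e)^g` squares to `z^g`
    set A := φ (uE k) with hA
    set X := φ (uE k * eE k) with hX
    have hXX : X * X = φ (zE k) := by
      rw [hX, ← m _ _ hue hue]
      congr 1
      ext <;> simp [uE, eE, zE, act1, act2, neg_hh]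
      all_goals (rw [← two_mul]; exact two_hh)
    have hA2 : A * A = 1 := by
      rw [hA, ← m _ _ hu hu, show uE k * uE k = 1 by ext <;> simp [uE, act1, act2, one_def]]
      apply hi
      rw [← hφ 1 (by simp), map_one]
      group
    have hB : A * X = φ (eE k) := by
      rw [hA, hX, ← m _ _ hu hue]
      congr 1
      ext <;> simp [uE, eE, act1, act2]
    have hinv : A * X * A = X * φ (zE k) := by
      rw [hA, hX, ← m _ _ hu hue, ← m _ _ (show uE k * (uE k * eE k) * w = w * (uE k * (uE k * eE k)) by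
        rw [mul_assoc, hue, ← mul_assoc, hu, mul_assoc]) hu, ← m _ _ hue hz]
      congr 1
      ext <;> simp [uE, eE, zE, act1, act2, neg_hh]
      all_goals (rw [← two_mul]; exact two_hh.symm)
    have hAK : Cj ι A (uE k) := by
      exact isConj_iff.2 ⟨g⁻¹, by rw [← hφ _ hu]; group⟩
    have hBe : Cj ι (A * X) (eE k) := by
      rw [hB]; exact isConj_iff.2 ⟨g⁻¹, by rw [← hφ _ he]; group⟩
    have hA1 : A ≠ 1 := fun h1 => by
      have := hφ _ hu
      rw [← hA, h1, map_one, conj_eq_one_iff] at this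
      exact ne_one_of_i (x := uE k) rfl (hi (this.trans (map_one ι).symm))
    have hcomm : A * φ (zE k) = φ (zE k) * A := by
      rw [hA, ← m _ _ hu hz, ← m _ _ hz hu, zE_central]
    -- locate `φ z`
    obtain ⟨hzi, hzj, hzp, hzq⟩ : (φ (zE k)).i = false ∧ (φ (zE k)).j = false ∧ (φ (zE k)).p = hh k ∧
        2 * (φ (zE k)).q = 0 := by
      obtain ⟨t, ht⟩ := isConj_iff.1 hzz
      generalize φ (zE k) = Z at ht ⊢
      obtain ⟨a, b, c, d⟩ := Z
      obtain ⟨r, s, i, j⟩ := t
      cases i <;> cases j <;> cases c <;> cases d <;> simp [eE, act1, act2] at ht ⊢ <;>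
        grind [neg_hh, two_hh]
    generalize φ (zE k) = Z at hXX hinv hcomm hzi hzj hzp hzq
    clear_value A X
    clear hX hA hB
    obtain ⟨a, b, c, d⟩ := Z
    simp only at hzi hzj hzp hzq
    subst hzi hzj hzp
    obtain ⟨r, s, i, j⟩ := X
    obtain ⟨p, q, i', j'⟩ := A
    -- `X` lies in the abelian subgroup
    have e1 := congrArg Mdl.p hXX
    have e2 := congrArg Mdl.q hXX
    simp only [mul_mk] at e1 e2
    have hkk : kk k + kk k = hh k := by rw [← two_mul, two_kk]
    obtain ⟨rfl, rfl⟩ : i = false ∧ j = false := by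
      cases i <;> cases j <;> simp [act1, act2] at e1 e2
      · exact ⟨rfl, rfl⟩
      · exfalso
        rcases two_mul_eq_zero hzq with rfl | rfl
        · exact hh_ne (k := k) (by linear_combination -e1 - 2 * e2)
        · exact hh_ne (k := k) (by linear_combination -e1 - 2 * e2 + (-1 : ZMod (4 * k)) * two_hh (k := k))
      · exact absurd e1.symm hh_ne
      · exact absurd e1.symm hh_ne
    simp [act1, act2] at e1 e2
    have hr0 : par k r = 0 := by
      rcases two_mul_eq_zero (x := r - kk k) (by linear_combination e1 - two_kk (k := k)) with h | h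
      · rw [sub_eq_zero] at h; rw [h, par_kk hk]
      · rw [sub_eq_iff_eq_add] at h; rw [h, map_add, par_hh, par_kk hk, add_zero]
    have hs0 : par k s = 0 := by
      rcases two_mul_eq_zero hzq with hb | hb
      · rcases two_mul_eq_zero (x := s) (by linear_combination e2 + hb) with h | h
        · rw [h, map_zero]
        · rw [h, par_hh]
      · rcases two_mul_eq_zero (x := s - kk k) (by linear_combination e2 + hb - two_kk (k := k)) with h | h
        · rw [sub_eq_zero] at h; rw [h, par_kk hk]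
        · rw [sub_eq_iff_eq_add] at h; rw [h, map_add, par_hh, par_kk hk, add_zero]
    -- so `A` is of type `uv`
    have f1 := congrArg Mdl.p hcomm
    have f2 := congrArg Mdl.q hcomm
    have g1 := congrArg Mdl.p hinv
    have a1 := congrArg Mdl.p hA2
    have a2 := congrArg Mdl.q hA2
    obtain ⟨rfl, rfl⟩ : i' = true ∧ j' = true := by
      cases i' <;> cases j' <;> simp [act1, act2] at f1 f2 g1 a1 a2
      · exfalso
        exact hh_ne (k := k) (by linear_combination a1 - g1)
      · exfalso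
        exact hh_ne (k := k) (by linear_combination -hzq - f2)
      · exfalso
        exact hh_ne (k := k) (by linear_combination f2)
      · exact ⟨rfl, rfl⟩
    have hAB : IsConj (⟨p, q, true, true⟩ : Mdl (4 * k)) (⟨p, q, true, true⟩ * ⟨r, s, false, false⟩) := by
      simp only [mul_mk, Bool.xor_false, act1, act2, cond_true]
      refine isConj_parity ?_ ?_ <;> simp [hr0, hs0]
    exact hne (((hAK.symm.trans (cj_of_isConj ι hAB)).trans hBe).trans hze.symm)
  have hinvK : ∀ y : Mdl (4 * k), y * y = 1 → y ≠ 1 → Cj ι y (eE k) → (y.i = true ∨ y.j = true) →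
      (par k y.p = 0 → False) := by
    intro y h2 h1 hye hij hp
    have hK : Cj ι y (uE k) → False := fun h => hne ((h.symm.trans hye).trans hze.symm)
    rcases involution_cases h2 h1 with h | h | h | h | h | h | h
    · obtain ⟨t, ht⟩ := isConj_iff.1 h
      obtain ⟨a, b, c, d⟩ := t
      obtain ⟨a', b', c', d'⟩ := y
      cases c <;> cases d <;> simp [zE] at ht hij <;> simp_all
    · obtain ⟨t, ht⟩ := isConj_iff.1 h
      obtain ⟨a, b, c, d⟩ := t
      obtain ⟨a', b', c', d'⟩ := y
      cases c <;> cases d <;> simp [eE] at ht hij <;> simp_all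
    · exact hK (cj_of_isConj ι h)
    · exact hK ((cj_of_isConj ι h).trans huv.symm)
    · exact hK ((cj_of_isConj ι h).trans (hw _ (Or.inl rfl)))
    · exact hK ((cj_of_isConj ι h).trans (hw _ (Or.inr rfl)))
    · rw [par_p_of_isConj h] at hp
      simp [w2] at hp
  -- `u` is fully centralized
  haveI : Fact (Nat.Prime 2) := ⟨Nat.prime_two⟩
  set C := Subgroup.centralizer ({ι (uE k)} : Set G) with hC
  set T := (Subgroup.centralizer ({uE k} : Set (Mdl (4 * k)))).map ι with hT
  have hTC : T ≤ C := by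
    rintro _ ⟨a, ha, rfl⟩
    rw [hC, Subgroup.mem_centralizer_singleton_iff, ← map_mul, ← map_mul,
      Subgroup.mem_centralizer_singleton_iff.1 ha]
  have hTp : IsPGroup 2 (T.subgroupOf C) :=
    (range_pgroup ι S hr _).comap_of_injective C.subtype C.subtype_injective
  obtain ⟨R, hR⟩ := hTp.exists_le_sylow
  have hcardT : Nat.card T = 16 * k := by
    rw [hT, Subgroup.card_map_of_injective hi, ← card_cent_uE (k := k)]
    exact Nat.card_congr (Equiv.subtypeEquivRight fun x => Subgroup.mem_centralizer_singleton_iff)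
  set R' := (R : Subgroup C).map C.subtype with hR'
  have hTR : T = R' := by
    have hle : T ≤ R' := fun a ha => ⟨⟨a, hTC ha⟩, hR (show (⟨a, hTC ha⟩ : C) ∈ T.subgroupOf C from ha), rfl⟩
    refine Subgroup.eq_of_le_of_card_ge hle ?_
    -- move `R'` into `S`
    obtain ⟨S', hS'⟩ := (R.2.map C.subtype : IsPGroup 2 R').exists_le_sylow
    obtain ⟨t, ht⟩ := MulAction.exists_smul_eq G S' S
    have htS : ∀ a ∈ R', t * a * t⁻¹ ∈ ι.range := fun a ha => by
      rw [hr, ← ht]
      exact Subgroup.smul_mem_pointwise_smul _ _ _ (hS' ha)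
    obtain ⟨y, hy⟩ := htS (ι (uE k)) (hle ⟨uE k, Subgroup.mem_centralizer_singleton_iff.2 rfl, rfl⟩)
    have hyu : Cj ι y (uE k) := isConj_iff.2 ⟨t⁻¹, by rw [hy]; group⟩
    have hy1 : y ≠ 1 := fun e => by
      rw [e, map_one, eq_comm, conj_eq_one_iff] at hy
      exact ne_one_of_i (x := uE k) rfl (hi (hy.trans (map_one ι).symm))
    have hy2 : y * y = 1 := hi (by
      rw [map_mul, hy, map_one]
      calc t * ι (uE k) * t⁻¹ * (t * ι (uE k) * t⁻¹) = t * (ι (uE k) * ι (uE k)) * t⁻¹ := by group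
        _ = 1 := by rw [← map_mul, show uE k * uE k = 1 by ext <;> simp [uE, act1, act2, one_def], map_one]; group)
    let f : R' → {x : Mdl (4 * k) // x * y = y * x} := fun a =>
      ⟨(htS a a.2).choose, hi (by
        have hau : (a : G) * ι (uE k) = ι (uE k) * a := by
          obtain ⟨b, -, hb⟩ := a.2
          rw [← hb]
          exact Subgroup.mem_centralizer_singleton_iff.1 b.2
        rw [map_mul, map_mul, (htS a a.2).choose_spec, hy]
        calc t * (a : G) * t⁻¹ * (t * ι (uE k) * t⁻¹) = t * ((a : G) * ι (uE k)) * t⁻¹ := by group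
          _ = t * (ι (uE k) * (a : G)) * t⁻¹ := by rw [hau]
          _ = _ := by group)⟩
    have hf : Function.Injective f := by
      intro a b e
      have e' := congrArg (fun x => ι x.1) e
      simp only [f, (htS a a.2).choose_spec, (htS b b.2).choose_spec] at e'
      exact Subtype.ext (mul_left_cancel (mul_right_cancel e'))
    refine (Nat.card_le_card_of_injective f hf).trans ?_
    rw [hcardT]
    -- centralizers of the members of the class of `u`
    have hconjcard : ∀ w, IsConj y w → Nat.card {x : Mdl (4 * k) // x * y = y * x} =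
        Nat.card {x : Mdl (4 * k) // x * w = w * x} := by
      intro w hyw
      obtain ⟨s, hs'⟩ := isConj_iff.1 hyw
      refine Nat.card_congr ((MulAut.conj s).toEquiv.subtypeEquiv fun x => ?_)
      rw [← hs']
      simp only [MulEquiv.toEquiv_eq_coe, EquivLike.coe_coe, MulAut.conj_apply]
      constructor
      · intro h
        calc s * x * s⁻¹ * (s * y * s⁻¹) = s * (x * y) * s⁻¹ := by group
          _ = s * (y * x) * s⁻¹ := by rw [h]
          _ = _ := by group
      · intro h
        calc x * y = s⁻¹ * (s * x * s⁻¹ * (s * y * s⁻¹)) * s := by group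
          _ = s⁻¹ * (s * y * s⁻¹ * (s * x * s⁻¹)) * s := by rw [h]
          _ = _ := by group
    have h16 : 16 ≤ 16 * k := by have := NeZero.pos k; omega
    rcases involution_cases hy2 hy1 with h | h | h | h | h | h | h
    · exact absurd (hyu.symm.trans (cj_of_isConj ι h)) hne
    · exact absurd ((hyu.symm.trans (cj_of_isConj ι h)).trans hze.symm) hne
    · rw [hconjcard _ h, card_cent_uE]
    · rw [hconjcard _ h, card_cent_vE]
    all_goals
      rw [hconjcard _ h]
      exact (card_cent_uv_le _ rfl rfl).trans h16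
  -- move `w0` to `u`
  obtain ⟨g, hg, hgR⟩ := shift ι S hr (hw _ (Or.inl rfl))
    ((Subgroup.centralizer ({w0 k} : Set _)).map ι) (range_pgroup ι S hr _) (by
      rintro _ ⟨a, ha, rfl⟩
      rw [← map_mul, ← map_mul, Subgroup.mem_centralizer_singleton_iff.1 ha]) R
  rw [← hR', ← hTR] at hgR
  have hφ : ∀ a, a * w0 k = w0 k * a → ∃ b, b.p = 0 ∧ g * ι a * g⁻¹ = ι b := fun a ha => by
    obtain ⟨b, hb, hb'⟩ := hgR (ι a) ⟨a, Subgroup.mem_centralizer_singleton_iff.2 ha, rfl⟩
    exact ⟨b, mem_cent_uE.1 (Subgroup.mem_centralizer_singleton_iff.1 hb), hb'.symm⟩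
  obtain ⟨a, b, ha, hb, hz⟩ := zE_commutator (w0 k) (Or.inr (Or.inr (Or.inl rfl)))
  obtain ⟨A, hA, hA'⟩ := hφ a ha
  obtain ⟨B, hB, hB'⟩ := hφ b hb
  obtain ⟨Z, hZ, hZ'⟩ := hφ _ (zE_central (w0 k))
  obtain ⟨E, hE, hE'⟩ := hφ (eE k) (by ext <;> simp [eE, w0, act1, act2, neg_hh])
  have hZc : Z = A * B * A⁻¹ * B⁻¹ := hi (by
    rw [← hZ', hz, map_mul ι (A * B * A⁻¹), map_mul ι (A * B), map_mul ι A, map_inv, map_inv, ← hA', ← hB']
    simp [mul_assoc])
  have hsq : ∀ {x : Mdl (4 * k)} {y}, g * ι x * g⁻¹ = ι y → x * x = 1 → x ≠ 1 → y * y = 1 ∧ y ≠ 1 := by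
    intro x y hxy hx hx1
    refine ⟨hi ?_, fun e => ?_⟩
    · rw [map_mul, ← hxy, map_one]
      calc g * ι x * g⁻¹ * (g * ι x * g⁻¹) = g * (ι x * ι x) * g⁻¹ := by group
        _ = 1 := by rw [← map_mul, hx, map_one]; group
    · rw [e, map_one, conj_eq_one_iff] at hxy
      exact hx1 (hi (hxy.trans (map_one ι).symm))
  obtain ⟨hZ2, hZ1⟩ := hsq hZ' zE_sq zE_ne
  obtain ⟨hE2, hE1⟩ := hsq hE' eE_sq eE_ne
  have hc := commutator_even A B
  rw [← hZc] at hc
  have abel : ∀ {x : Mdl (4 * k)}, x.p = 0 → x.i = false → x.j = false → x * x = 1 → x ≠ 1 → x = zE k := by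
    intro x hp h1 h2 h3 h4
    rcases abelian_involution h1 h2 h3 h4 with e | e
    · exact e
    · exfalso
      obtain ⟨t, ht⟩ := isConj_iff.1 e
      obtain ⟨p, q, i, j⟩ := x
      obtain ⟨r, s, i', j'⟩ := t
      simp only at hp h1 h2
      subst hp h1 h2
      cases i' <;> cases j' <;> simp [eE, act1] at ht <;> exact hh_ne (k := k) (by grind)
  have hZz : Z = zE k := abel hZ hc.1 hc.2.1 hZ2 hZ1
  refine hinvK E hE2 hE1 (isConj_iff.2 ⟨g⁻¹, by rw [← hE']; group⟩) ?_ (by rw [hE, map_zero])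
  by_contra hcon
  push Not at hcon
  have hEz := abel hE (by simpa using hcon.1) (by simpa using hcon.2) hE2 hE1
  rw [hEz, ← hZz, ← hZ'] at hE'
  exact eE_ne_zE (hi (mul_left_cancel (mul_right_cancel hE')))

/-- The classes of involutions of `G`. -/
theorem main (hk : k = 1 ∨ Even k) :
    (∀ x y : G, orderOf x = 2 → orderOf y = 2 → IsConj x y) ∨
      (k = 1 ∧ ∃ x y : G, orderOf x = 2 ∧ orderOf y = 2 ∧ ¬ IsConj x y ∧
        ∀ z : G, orderOf z = 2 → IsConj z x ∨ IsConj z y) := by
  haveI : Fact (Nat.Prime 2) := ⟨Nat.prime_two⟩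
  have hall : ∀ x : G, orderOf x = 2 → IsConj x (ι (zE k)) ∨ IsConj x (ι (uE k)) := by
    intro x hx
    obtain ⟨Q, hQ⟩ := (IsPGroup.of_card (n := 1) (by rw [Nat.card_zpowers, hx, pow_one]) :
      IsPGroup 2 (Subgroup.zpowers x)).exists_le_sylow
    obtain ⟨t, ht⟩ := MulAction.exists_smul_eq G Q S
    have hm : t * x * t⁻¹ ∈ ι.range := by
      rw [hr, ← ht]
      exact Subgroup.smul_mem_pointwise_smul _ _ _ (hQ (Subgroup.mem_zpowers _))
    obtain ⟨y, hy⟩ := hm
    have hc : IsConj x (ι y) := isConj_iff.2 ⟨t, hy.symm⟩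
    obtain ⟨h2, h1⟩ := sq_of_orderOf hx
    have hy1 : y ≠ 1 := fun e => by
      rw [e, map_one, eq_comm, conj_eq_one_iff] at hy
      exact h1 hy
    have hy2 : y * y = 1 := hi (by
      rw [map_mul, hy, map_one]
      calc t * x * t⁻¹ * (t * x * t⁻¹) = t * (x * x) * t⁻¹ := by group
        _ = 1 := by rw [h2]; group)
    exact (two_classes ι S hr hi hs hy1 hy2).imp hc.trans hc.trans
  by_cases h : Cj ι (uE k) (zE k)
  · left
    intro x y hx hy
    have key : ∀ w : G, orderOf w = 2 → IsConj w (ι (zE k)) := fun w hw =>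
      (hall w hw).elim id fun h' => h'.trans h
    exact (key x hx).trans (key y hy).symm
  · right
    refine ⟨hk.resolve_right fun he => h (u_z ι S hr hi hs he), ι (zE k), ι (uE k),
      orderOf_two ι hi zE_ne zE_sq, orderOf_two ι hi (ne_one_of_i rfl) (by ext <;> simp [uE, act1, act2, one_def]),
      fun h' => h h'.symm, hall⟩

end

end Cfsg.Agent.G2Type.Fusion
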