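import Mathlib

/-!
# A semilinear generator normalizing a cyclic 2-subgroup of `SL₂(q)`

For `2 ^ (m+1)` the exact power of 2 dividing `q² - 1` there is a matrix `M` whose square, divided by its
determinant, has order `2 ^ m` in `SL₂(q)`, and an `s` of square `-1` with `s M s⁻¹ = adj M`.
-/

set_option autoImplicit false

namespace Cfsg.Agent.G2Type

open Matrix

instance : Fact (Even (Fintype.card (Fin 2))) := ⟨by decide⟩

/-- The data. -/
structure Datum (F : Type*) [Field F] (k : ℕ) where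
  /-- the determinant -/
  lam : Fˣ
  /-- the matrix -/
  M : Matrix (Fin 2) (Fin 2) F
  /-- the inverting element -/
  s : SpecialLinearGroup (Fin 2) F
  /-- the square, normalized -/
  r : SpecialLinearGroup (Fin 2) F
  det_M : M.det = lam
  s_M : (s : Matrix (Fin 2) (Fin 2) F) * M = M.adjugate * (s : Matrix (Fin 2) (Fin 2) F)
  r_M : (r : Matrix (Fin 2) (Fin 2) F) = (lam⁻¹ : Fˣ).1 • (M * M)
  r_pow : r ^ (2 * k) = -1
  s_sq : s * s = -1

variable {F : Type*} [Field F] [Fintype F]

omit [Fintype F] in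
theorem sl_ext {a b : SpecialLinearGroup (Fin 2) F}
    (h : (a : Matrix (Fin 2) (Fin 2) F) = (b : Matrix (Fin 2) (Fin 2) F)) : a = b := Subtype.ext h

/-- An element of a finite field with a prescribed order. -/
theorem exists_unit_pow_eq_neg_one {K : Type*} [Field K] [Finite K] (h2 : (2 : K) ≠ 0) {n : ℕ} (hn : 0 < n)
    (hd : 2 * n ∣ Nat.card Kˣ) : ∃ x : Kˣ, (x : K) ^ n = -1 := by
  obtain ⟨g, hg⟩ := IsCyclic.exists_ofOrder_eq_natCard (α := Kˣ)
  obtain ⟨c, hc⟩ := hd
  refine ⟨g ^ c, ?_⟩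
  have h1 : ((g ^ c) ^ n) ^ 2 = 1 := by
    rw [← pow_mul, ← pow_mul, ← orderOf_dvd_iff_pow_eq_one, hg, hc]
    exact dvd_of_eq (by ring)
  have hne : (g ^ c) ^ n ≠ 1 := by
    rw [← pow_mul, Ne, ← orderOf_dvd_iff_pow_eq_one, hg, hc]
    intro h
    have hc0 : 0 < c := by
      rcases Nat.eq_zero_or_pos c with rfl | h'
      · rw [mul_zero] at hc; exact absurd hc Nat.card_pos.ne'
      · exact h'
    have := Nat.le_of_dvd (by positivity) h
    nlinarith
  have h1' : ((g ^ c : Kˣ) : K) ^ n * ((g ^ c : Kˣ) : K) ^ n = 1 := by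
    rw [← Units.val_pow_eq_pow_val, ← Units.val_mul, ← pow_two, h1, Units.val_one]
  rcases mul_self_eq_one_iff.1 h1' with h | h
  · exact absurd (Units.ext (by simpa using h)) hne
  · exact h

theorem exists_datum (hF : Odd (Fintype.card F)) (e : ℕ) (hd : 8 * 2 ^ e ∣ Fintype.card F ^ 2 - 1) :
    Nonempty (Datum F (2 ^ e)) := by
  classical
  set q := Fintype.card F with hq
  set k := 2 ^ e with hk'
  have hk : 0 < k := by positivity
  have h2 : (2 : F) ≠ 0 := Ring.two_ne_zero fun h => by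
    have := FiniteField.even_card_of_char_two h
    rw [← hq] at this
    exact Nat.not_even_iff_odd.2 hF (Nat.even_iff.2 this)
  have hq1 : 1 < q := Fintype.one_lt_card
  have hsq : q ^ 2 - 1 = (q + 1) * (q - 1) := by simpa using Nat.sq_sub_sq q 1
  rw [hsq] at hd
  by_cases h4 : q % 4 = 1
  · -- split torus
    obtain ⟨a, ha⟩ : ∃ a, q + 1 = 2 * a ∧ Odd a := ⟨(q + 1) / 2, by omega, Nat.odd_iff.2 (by omega)⟩
    obtain ⟨ha, hao⟩ := ha
    have hd' : 2 * (2 * k) ∣ Nat.card Fˣ := by
      rw [Nat.card_units, Nat.card_eq_fintype_card, ← hq]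
      rw [ha, show 8 * k = 2 * (4 * k) by ring, mul_assoc] at hd
      replace hd := Nat.dvd_of_mul_dvd_mul_left two_pos hd
      rw [show 2 * (2 * k) = 4 * k by ring]
      refine Nat.Coprime.dvd_of_dvd_mul_left ?_ hd
      rw [hk', show 4 * 2 ^ e = 2 ^ (e + 2) by ring]
      exact (Nat.coprime_pow_left_iff (by omega) 2 a).2 (Nat.coprime_two_left.2 hao)
    obtain ⟨ζ, hζ⟩ := exists_unit_pow_eq_neg_one h2 (by omega) hd'
    obtain ⟨s, hs⟩ : ∃ s : SpecialLinearGroup (Fin 2) F, (s : Matrix (Fin 2) (Fin 2) F) = !![0, 1; -1, 0] :=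
      ⟨⟨!![0, 1; -1, 0], by simp [det_fin_two_of]⟩, rfl⟩
    obtain ⟨r, hr⟩ : ∃ r : SpecialLinearGroup (Fin 2) F,
        (r : Matrix (Fin 2) (Fin 2) F) = !![(ζ : F), 0; 0, (ζ : F)⁻¹] :=
      ⟨⟨!![(ζ : F), 0; 0, (ζ : F)⁻¹], by simp [det_fin_two_of]⟩, rfl⟩
    have key : ∀ n, (!![(ζ : F), 0; 0, (ζ : F)⁻¹] : Matrix (Fin 2) (Fin 2) F) ^ n =
        !![(ζ : F) ^ n, 0; 0, ((ζ : F)⁻¹) ^ n] := by
      intro n
      induction n with
      | zero => ext i j; fin_cases i <;> fin_cases j <;> simp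
      | succ n ih =>
        rw [pow_succ, ih]
        ext i j; fin_cases i <;> fin_cases j <;> simp [Matrix.mul_apply, Fin.sum_univ_two, pow_succ]
    refine ⟨⟨ζ, !![(ζ : F), 0; 0, 1], s, r, by simp [det_fin_two_of], ?_, ?_, ?_, ?_⟩⟩
    · rw [Matrix.adjugate_fin_two_of, hs]
      ext i j; fin_cases i <;> fin_cases j <;> simp [Matrix.mul_apply, Fin.sum_univ_two]
    · rw [hr]
      ext i j; fin_cases i <;> fin_cases j <;> simp [Matrix.mul_apply, Fin.sum_univ_two]
    · apply sl_ext
      rw [Matrix.SpecialLinearGroup.coe_pow, hr, key, inv_pow, hζ, Matrix.SpecialLinearGroup.coe_neg, Matrix.SpecialLinearGroup.coe_one]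
      ext i j
      fin_cases i <;> fin_cases j <;> simp
    · apply sl_ext
      rw [Matrix.SpecialLinearGroup.coe_mul, hs, Matrix.SpecialLinearGroup.coe_neg, Matrix.SpecialLinearGroup.coe_one]
      ext i j
      fin_cases i <;> fin_cases j <;> simp [Matrix.mul_apply, Fin.sum_univ_two]
  · -- the non-split torus
    have h43 : q % 4 = 3 := by
      have := Nat.odd_iff.1 hF
      omega
    haveI : Fact (∀ r : F, r ^ 2 ≠ -1 + 0 * r) := ⟨fun r h => by
      refine FiniteField.isSquare_neg_one_iff.1 ⟨r, ?_⟩ h43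
      rw [← pow_two, h, zero_mul, add_zero]⟩
    let K := QuadraticAlgebra F (-1) 0
    haveI : Finite K := Finite.of_equiv _ (QuadraticAlgebra.equivProd (-1 : F) 0).symm
    have hcard : Nat.card Kˣ = (q + 1) * (q - 1) := by
      rw [Nat.card_units, Nat.card_congr (QuadraticAlgebra.equivProd (-1 : F) 0), Nat.card_prod,
        Nat.card_eq_fintype_card, ← hq, ← pow_two, hsq]
    have h2K : (2 : K) ≠ 0 := by
      intro h
      have h' := congrArg QuadraticAlgebra.re (show (1 : K) + 1 = 0 by rw [one_add_one_eq_two]; exact h)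
      simp only [QuadraticAlgebra.re_add, QuadraticAlgebra.re_one, QuadraticAlgebra.re_zero] at h'
      rw [one_add_one_eq_two] at h'
      exact h2 h'
    obtain ⟨ξ, hξ⟩ := exists_unit_pow_eq_neg_one h2K (n := 4 * k) (by omega)
      (by rw [hcard, show 2 * (4 * k) = 8 * k by ring]; exact hd)
    set a := (ξ : K).re with haa
    set b := (ξ : K).im with hbb
    have hn0 : a * a + b * b ≠ 0 := fun h => by
      have := (QuadraticAlgebra.norm_eq_zero_iff_eq_zero (z := (ξ : K))).1 (by
        rw [QuadraticAlgebra.norm_def]; linear_combination h)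
      exact ξ.ne_zero this
    set N : Fˣ := Units.mk0 _ hn0 with hN
    have hNn : QuadraticAlgebra.norm (ξ : K) = (N : F) := by
      rw [QuadraticAlgebra.norm_def]; simp [hN, a, b]
    -- the norm squares to one
    have hN2 : N ^ 2 = 1 := by
      have e1 : N ^ (8 * k) = 1 := by
        refine Units.ext ?_
        rw [Units.val_pow_eq_pow_val, ← hNn, ← map_pow, show 8 * k = 4 * k + 4 * k by ring, pow_add, hξ]
        simp
      have e2 : N ^ (q - 1) = 1 := by
        rw [hq, ← Fintype.card_units, pow_card_eq_one]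
      have h3 := pow_gcd_eq_one.2 ⟨e1, e2⟩
      obtain ⟨b', hb, hbo⟩ : ∃ b', q - 1 = 2 * b' ∧ Odd b' :=
        ⟨(q - 1) / 2, by omega, Nat.odd_iff.2 (by omega)⟩
      rw [hb, hk', show 8 * 2 ^ e = 2 * 2 ^ (e + 2) by ring, Nat.gcd_mul_left,
        Nat.Coprime.gcd_eq_one ((Nat.coprime_pow_left_iff (by omega) 2 b').2 (Nat.coprime_two_left.2 hbo)),
        mul_one] at h3
      exact h3
    -- a sum of two squares equal to minus one
    obtain ⟨x, y, hxy⟩ : ∃ x y : F, x * x + y * y = -1 := by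
      obtain ⟨x, y, h⟩ := FiniteField.exists_root_sum_quadratic
        (f := (Polynomial.X ^ 2 : Polynomial F)) (g := Polynomial.X ^ 2 + Polynomial.C 1)
        (Polynomial.degree_X_pow 2) (by rw [Polynomial.degree_X_pow_add_C two_pos]; rfl)
        (Nat.odd_iff.1 hF)
      refine ⟨x, y, ?_⟩
      simp at h
      linear_combination h
    obtain ⟨s, hs⟩ : ∃ s : SpecialLinearGroup (Fin 2) F, (s : Matrix (Fin 2) (Fin 2) F) = !![x, y; y, -x] :=
      ⟨⟨!![x, y; y, -x], by rw [det_fin_two_of]; linear_combination -hxy⟩, rfl⟩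
    obtain ⟨r, hr⟩ : ∃ r : SpecialLinearGroup (Fin 2) F,
        (r : Matrix (Fin 2) (Fin 2) F) = ((N⁻¹ : Fˣ) : F) • (!![a, -b; b, a] * !![a, -b; b, a]) := by
      refine ⟨⟨_, ?_⟩, rfl⟩
      rw [det_smul, det_mul, det_fin_two_of, show a * a - -b * b = ((N : Fˣ) : F) by
        rw [hN, Units.val_mk0]; ring, Fintype.card_fin, ← Units.val_pow_eq_pow_val, ← Units.val_mul,
        ← Units.val_mul]
      rw [inv_pow, pow_two, inv_mul_cancel, Units.val_one]
    refine ⟨⟨N, !![a, -b; b, a], s, r, ?_, ?_, hr, ?_, ?_⟩⟩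
    · rw [det_fin_two_of, hN, Units.val_mk0]; ring
    · rw [Matrix.adjugate_fin_two_of, hs]
      ext i j; fin_cases i <;> fin_cases j <;> simp [Matrix.mul_apply, Fin.sum_univ_two] <;> ring
    · -- powers of the matrix follow powers of the field element
      let mk : QuadraticAlgebra F (-1) 0 → Matrix (Fin 2) (Fin 2) F := fun w => !![w.re, -w.im; w.im, w.re]
      have hmul : ∀ v w : QuadraticAlgebra F (-1) 0, mk (v * w) = mk v * mk w := fun v w => by
        ext i j; fin_cases i <;> fin_cases j <;> simp [mk, Matrix.mul_apply, Fin.sum_univ_two] <;> ring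
      have hp : ∀ n, mk ((ξ : QuadraticAlgebra F (-1) 0) ^ n) = (!![a, -b; b, a] : Matrix (Fin 2) (Fin 2) F) ^ n := by
        intro n
        induction n with
        | zero =>
          rw [pow_zero, pow_zero]
          ext i j; fin_cases i <;> fin_cases j <;> simp [mk] <;> rfl
        | succ n ih => rw [pow_succ, hmul, ih, pow_succ]
      apply sl_ext
      rw [Matrix.SpecialLinearGroup.coe_pow, hr, smul_pow, ← pow_two, ← pow_mul,
        show 2 * (2 * k) = 4 * k by ring, ← hp, hξ, ← Units.val_pow_eq_pow_val, inv_pow, pow_mul, hN2,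
        one_pow, inv_one, Units.val_one, one_smul, Matrix.SpecialLinearGroup.coe_neg, Matrix.SpecialLinearGroup.coe_one]
      ext i j
      fin_cases i <;> fin_cases j <;> simp [mk] <;>
        first | exact QuadraticAlgebra.re_neg 1 | exact (QuadraticAlgebra.im_neg 1).trans neg_zero |
          (rw [show (-1 : K).im = -(1 : QuadraticAlgebra F (-1) 0).im from rfl]; simp)
    · apply sl_ext
      rw [Matrix.SpecialLinearGroup.coe_mul, hs, Matrix.SpecialLinearGroup.coe_neg, Matrix.SpecialLinearGroup.coe_one]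
      ext i j
      fin_cases i <;> fin_cases j <;> simp [Matrix.mul_apply, Fin.sum_univ_two] <;>
        first | ring1 | linear_combination hxy

end Cfsg.Agent.G2Type
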