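import Mathlib

/-!
# The Sylow 2-subgroups of `G₂(q)`, `q` odd, as an explicit group

`Mdl N` is the extension of `ZMod N × ZMod N` by a four-group `⟨u, v⟩` with `u (p, q) = (-p, p + q)` and
`v (p, q) = (p, -p - q)`; here `uv` inverts every element.
-/

set_option autoImplicit false

namespace Cfsg.Agent.G2Type

/-- The model. -/
@[ext] structure Mdl (N : ℕ) where
  /-- first coordinate -/
  p : ZMod N
  /-- second coordinate -/
  q : ZMod N
  /-- the component at `u` -/
  i : Bool
  /-- the component at `v` -/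
  j : Bool

namespace Mdl

variable {N : ℕ}

/-- The action on the first coordinate. -/
def act1 (i _j : Bool) (p _q : ZMod N) : ZMod N := bif i then -p else p

/-- The action on the second coordinate. -/
def act2 : Bool → Bool → ZMod N → ZMod N → ZMod N
  | false, false, _, q => q
  | true, false, p, q => p + q
  | false, true, p, q => -p - q
  | true, true, _, q => -q

instance : Mul (Mdl N) :=
  ⟨fun a b => ⟨a.p + act1 a.i a.j b.p b.q, a.q + act2 a.i a.j b.p b.q, xor a.i b.i, xor a.j b.j⟩⟩

instance : One (Mdl N) := ⟨⟨0, 0, false, false⟩⟩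

instance : Inv (Mdl N) :=
  ⟨fun a => ⟨-act1 a.i a.j a.p a.q, -act2 a.i a.j a.p a.q, a.i, a.j⟩⟩

@[simp] theorem mul_mk (a b c d : ZMod N) (i j k l : Bool) :
    (⟨a, b, i, j⟩ : Mdl N) * ⟨c, d, k, l⟩ =
      ⟨a + act1 i j c d, b + act2 i j c d, xor i k, xor j l⟩ := rfl

theorem one_def : (1 : Mdl N) = ⟨0, 0, false, false⟩ := rfl

@[simp] theorem inv_mk (a b : ZMod N) (i j : Bool) :
    (⟨a, b, i, j⟩ : Mdl N)⁻¹ = ⟨-act1 i j a b, -act2 i j a b, i, j⟩ := rfl

@[simp] theorem one_p : (1 : Mdl N).p = 0 := rfl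
@[simp] theorem one_q : (1 : Mdl N).q = 0 := rfl
@[simp] theorem one_i : (1 : Mdl N).i = false := rfl
@[simp] theorem one_j : (1 : Mdl N).j = false := rfl

instance : Group (Mdl N) :=
  Group.ofLeftAxioms
    (fun a b c => by
      obtain ⟨a1, a2, a3, a4⟩ := a; obtain ⟨b1, b2, b3, b4⟩ := b; obtain ⟨c1, c2, c3, c4⟩ := c
      cases a3 <;> cases a4 <;> cases b3 <;> cases b4 <;> cases c3 <;> cases c4 <;>
        ext <;> simp [act1, act2] <;> ring)
    (fun a => by
      obtain ⟨a1, a2, a3, a4⟩ := a
      cases a3 <;> cases a4 <;> ext <;> simp [one_def, act1, act2])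
    (fun a => by
      obtain ⟨a1, a2, a3, a4⟩ := a
      cases a3 <;> cases a4 <;> ext <;> simp [one_def, act1, act2] <;> ring)

/-- The four components. -/
def equivProd : Mdl N ≃ ((ZMod N × ZMod N) × (Bool × Bool)) where
  toFun a := ((a.p, a.q), (a.i, a.j))
  invFun x := ⟨x.1.1, x.1.2, x.2.1, x.2.2⟩
  left_inv _ := rfl
  right_inv _ := rfl

instance [NeZero N] : Finite (Mdl N) := Finite.of_equiv _ (equivProd (N := N)).symm

theorem card_eq [NeZero N] : Nat.card (Mdl N) = 4 * N ^ 2 := by
  rw [Nat.card_congr equivProd]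
  simp [Nat.card_prod, Nat.card_eq_fintype_card]
  ring

/-! ### Homomorphisms out of the model -/

variable {G : Type*} [Group G]

theorem pow_val_add [NeZero N] {g : G} (h : g ^ N = 1) (x y : ZMod N) :
    g ^ (x + y).val = g ^ x.val * g ^ y.val := by
  rw [ZMod.val_add, ← pow_eq_pow_mod _ h, pow_add]

theorem pow_val_neg [NeZero N] {g : G} (h : g ^ N = 1) (x : ZMod N) :
    g ^ (-x).val = (g ^ x.val)⁻¹ := by
  refine eq_inv_of_mul_eq_one_left ?_
  rw [← pow_val_add h, neg_add_cancel, ZMod.val_zero, pow_zero]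

/-- The defining relations. -/
structure Rel (N : ℕ) (c b u v : G) : Prop where
  c_pow : c ^ N = 1
  b_pow : b ^ N = 1
  c_b : c * b = b * c
  u_sq : u * u = 1
  v_sq : v * v = 1
  u_v : u * v = v * u
  u_c : u * c * u⁻¹ = c⁻¹ * b
  u_b : u * b * u⁻¹ = b
  v_c : v * c * v⁻¹ = c * b⁻¹
  v_b : v * b * v⁻¹ = b⁻¹

/-- The map. -/
def liftFun (c b u v : G) (x : Mdl N) : G :=
  c ^ x.p.val * b ^ x.q.val * (bif x.i then u else 1) * (bif x.j then v else 1)

variable [NeZero N] {c b u v : G} (R : Rel N c b u v)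
include R

theorem u_move (x y : ZMod N) :
    u * (c ^ x.val * b ^ y.val) = c ^ (-x).val * b ^ (x + y).val * u := by
  rw [← mul_inv_eq_iff_eq_mul]
  have e1 : u * (c ^ x.val * b ^ y.val) * u⁻¹ = (u * c * u⁻¹) ^ x.val * (u * b * u⁻¹) ^ y.val := by
    rw [conj_pow, conj_pow]; group
  have hcb : Commute c⁻¹ b := (Commute.inv_left R.c_b)
  rw [e1, R.u_c, R.u_b, hcb.mul_pow, inv_pow, ← pow_val_neg R.c_pow, pow_val_add R.b_pow, mul_assoc]

theorem v_move (x y : ZMod N) :
    v * (c ^ x.val * b ^ y.val) = c ^ x.val * b ^ (-x - y).val * v := by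
  rw [← mul_inv_eq_iff_eq_mul]
  have e1 : v * (c ^ x.val * b ^ y.val) * v⁻¹ = (v * c * v⁻¹) ^ x.val * (v * b * v⁻¹) ^ y.val := by
    rw [conj_pow, conj_pow]; group
  have hcb : Commute c b⁻¹ := (Commute.inv_right R.c_b)
  rw [e1, R.v_c, R.v_b, hcb.mul_pow, inv_pow, inv_pow, sub_eq_add_neg, pow_val_add R.b_pow,
    pow_val_neg R.b_pow, pow_val_neg R.b_pow, mul_assoc]

theorem A_mul (x y x' y' : ZMod N) :
    c ^ x.val * b ^ y.val * (c ^ x'.val * b ^ y'.val) = c ^ (x + x').val * b ^ (y + y').val := by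
  rw [pow_val_add R.c_pow, pow_val_add R.b_pow]
  have : Commute (b ^ y.val) (c ^ x'.val) := (Commute.pow_pow (Commute.symm R.c_b) _ _)
  simp only [mul_assoc]
  rw [← mul_assoc (b ^ y.val) (c ^ x'.val), this.eq, mul_assoc]

theorem T_move (i j : Bool) (x y : ZMod N) :
    (bif i then u else 1) * (bif j then v else 1) * (c ^ x.val * b ^ y.val) =
      c ^ (act1 i j x y).val * b ^ (act2 i j x y).val * ((bif i then u else 1) * (bif j then v else 1)) := by
  cases i <;> cases j
  · simp [act1, act2]
  · simpa [act1, act2] using v_move R x y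
  · simpa [act1, act2] using u_move R x y
  · simp only [cond_true]
    rw [mul_assoc, v_move R, ← mul_assoc, u_move R, mul_assoc _ u v,
      show x + (-x - y) = -y by ring]
    simp [act1, act2]

theorem T_mul (i j i' j' : Bool) :
    (bif i then u else 1) * (bif j then v else 1) * ((bif i' then u else 1) * (bif j' then v else 1)) =
      (bif xor i i' then u else 1) * (bif xor j j' then v else 1) := by
  have huv : Commute u v := R.u_v
  cases i <;> cases j <;> cases i' <;> cases j' <;>
    simp [← mul_assoc, R.u_sq, R.v_sq] <;>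
    first
      | exact huv.eq.symm
      | exact R.v_sq
      | (rw [mul_assoc, R.v_sq, mul_one])
      | (rw [mul_assoc u v u, ← huv.eq, ← mul_assoc, R.u_sq, one_mul, R.v_sq])
      | (rw [mul_assoc u v u, ← huv.eq, ← mul_assoc, R.u_sq, one_mul])
      | (rw [← huv.eq, mul_assoc, R.v_sq, mul_one])

/-- The homomorphism. -/
def lift : Mdl N →* G where
  toFun := liftFun c b u v
  map_one' := by simp [liftFun]
  map_mul' := by
    rintro ⟨p, q, i, j⟩ ⟨p', q', i', j'⟩
    simp only [liftFun, mul_mk]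
    calc c ^ (p + act1 i j p' q').val * b ^ (q + act2 i j p' q').val * (bif xor i i' then u else 1) *
          (bif xor j j' then v else 1)
        = c ^ p.val * b ^ q.val * ((c ^ (act1 i j p' q').val * b ^ (act2 i j p' q').val *
            ((bif i then u else 1) * (bif j then v else 1))) *
            ((bif i' then u else 1) * (bif j' then v else 1))) := by
          rw [← A_mul R p q, mul_assoc _ (bif xor i i' then u else 1), ← T_mul R]
          simp only [mul_assoc]
      _ = _ := by
          rw [← T_move R i j p' q']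
          simp only [mul_assoc]

theorem lift_apply (x : Mdl N) : lift R x = liftFun c b u v x := rfl

end Mdl

end Cfsg.Agent.G2Type
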