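import Cfsg.Agent.Lib.G2Type.Classes
import Cfsg.Agent.Lib.G2Type.Datum
import Cfsg.Agent.Lib.Chevalley.SL2
import Cfsg.Agent.Lib.Chevalley.Types.G2
import Cfsg.Agent.Lib.Chevalley.Types.OrderG2

/-!
# A Sylow 2-subgroup of `G₂(q)`, `q` odd

Two commuting root `SL₂`'s for the orthogonal roots `a` and `3a+2b`, with a torus element inducing
`diag(λ, 1)` on both.
-/

set_option autoImplicit false

namespace Cfsg.Agent.G2Type

open Cfsg.Agent.Chevalley.SL2 Matrix

section Abstract

variable {F : Type*} [Field F]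

/-- Conjugation by `diag (l, 1)`, as a map. -/
def dFun (l : Fˣ) (y : Matrix.SpecialLinearGroup (Fin 2) F) : Matrix.SpecialLinearGroup (Fin 2) F :=
  ⟨!![el y 0 0, (l : F) * el y 0 1; ((l⁻¹ : Fˣ) : F) * el y 1 0, el y 1 1], by
    rw [det_fin_two_of]
    have := el_det y
    have hl : (l : F) * ((l⁻¹ : Fˣ) : F) = 1 := by simp
    linear_combination this - el y 0 1 * el y 1 0 * hl⟩

theorem coe_dFun (l : Fˣ) (y : Matrix.SpecialLinearGroup (Fin 2) F) :
    (dFun l y : Matrix (Fin 2) (Fin 2) F) =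
      !![el y 0 0, (l : F) * el y 0 1; ((l⁻¹ : Fˣ) : F) * el y 1 0, el y 1 1] := rfl

theorem dFun_mul (l : Fˣ) (y z : Matrix.SpecialLinearGroup (Fin 2) F) :
    dFun l (y * z) = dFun l y * dFun l z := by
  apply sl_ext
  rw [Matrix.SpecialLinearGroup.coe_mul, coe_dFun, coe_dFun, coe_dFun]
  ext i j
  fin_cases i <;> fin_cases j <;> simp [el_mul, Matrix.mul_apply, Fin.sum_univ_two] <;>
    first | ring1 | (field_simp <;> ring1)

/-- Conjugation by `diag (l, 1)`. -/
def dConj (l : Fˣ) : Matrix.SpecialLinearGroup (Fin 2) F →* Matrix.SpecialLinearGroup (Fin 2) F :=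
  MonoidHom.mk' (dFun l) (dFun_mul l)

theorem coe_dConj (l : Fˣ) (y : Matrix.SpecialLinearGroup (Fin 2) F) :
    (dConj l y : Matrix (Fin 2) (Fin 2) F) =
      !![el y 0 0, (l : F) * el y 0 1; ((l⁻¹ : Fˣ) : F) * el y 1 0, el y 1 1] := rfl

theorem dConj_inv (l : Fˣ) (y : Matrix.SpecialLinearGroup (Fin 2) F) : dConj l (dConj l⁻¹ y) = y := by
  apply sl_ext
  rw [coe_dConj]
  ext i j
  fin_cases i <;> fin_cases j <;> simp [el, coe_dConj]

/-- The diagonal element. -/
def dia (l : Fˣ) : Matrix.SpecialLinearGroup (Fin 2) F :=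
  ⟨!![(l : F), 0; 0, ((l⁻¹ : Fˣ) : F)], by simp [det_fin_two_of]⟩

/-- The monomial elements. -/
def sn (a : F) : Matrix.SpecialLinearGroup (Fin 2) F := sx a * sy (-a⁻¹) * sx a

theorem dia_eq (l : Fˣ) : dia l = sn (l : F) * sn (-1) := by
  apply sl_ext
  rw [sn, sn, Matrix.SpecialLinearGroup.coe_mul, Matrix.SpecialLinearGroup.coe_mul,
    Matrix.SpecialLinearGroup.coe_mul, Matrix.SpecialLinearGroup.coe_mul,
    Matrix.SpecialLinearGroup.coe_mul, coe_sx, coe_sy, coe_sx, coe_sy]
  ext i j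
  fin_cases i <;> fin_cases j <;> simp [dia, Matrix.mul_apply, Fin.sum_univ_two]

theorem dia_neg_one : dia (-1 : Fˣ) = (-1 : Matrix.SpecialLinearGroup (Fin 2) F) := by
  apply sl_ext
  rw [Matrix.SpecialLinearGroup.coe_neg, Matrix.SpecialLinearGroup.coe_one]
  ext i j
  fin_cases i <;> fin_cases j <;> simp [dia]

variable {G : Type*} [Group G]

/-- The model maps injectively into a group with two suitably linked copies of `SL₂`. -/
theorem exists_embedding {k : ℕ} [NeZero k] {e : ℕ} (hk : k = 2 ^ e) (Dt : Datum F k)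
    (φ ψ : Matrix.SpecialLinearGroup (Fin 2) F →* G) (hcomm : ∀ x y, Commute (φ x) (ψ y)) (d : G)
    (hdφ : ∀ y, d * φ y * d⁻¹ = φ (dConj Dt.lam y)) (hdψ : ∀ y, d * ψ y * d⁻¹ = ψ (dConj Dt.lam y))
    (hdd : d * d = φ (dia Dt.lam) * ψ (dia Dt.lam)) (hneg : φ (-1) = ψ (-1)) (hne : ψ (-1) ≠ 1) :
    ∃ ι : Mdl (4 * k) →* G, Function.Injective ι := by
  obtain ⟨lam, M, s, r, hdet, hsM, hrM, hrp, hss⟩ := Dt
  change ∀ y, d * φ y * d⁻¹ = φ (dConj lam y) at hdφ
  change ∀ y, d * ψ y * d⁻¹ = ψ (dConj lam y) at hdψ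
  change d * d = φ (dia lam) * ψ (dia lam) at hdd
  have hadj : M.adjugate * M = (lam : F) • (1 : Matrix (Fin 2) (Fin 2) F) := by
    rw [Matrix.adjugate_mul, hdet]
  have hadj' : M * M.adjugate = (lam : F) • (1 : Matrix (Fin 2) (Fin 2) F) := by
    rw [Matrix.mul_adjugate, hdet]
  -- `g = diag(lam⁻¹, 1) M`
  obtain ⟨g, hg⟩ : ∃ g : Matrix.SpecialLinearGroup (Fin 2) F, (g : Matrix (Fin 2) (Fin 2) F) =
      !![((lam⁻¹ : Fˣ) : F), 0; 0, 1] * M := by
    refine ⟨⟨_, ?_⟩, rfl⟩
    rw [det_mul, hdet, det_fin_two_of]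
    simp
  -- conjugation by `M`
  have hμ : ∀ y w : Matrix.SpecialLinearGroup (Fin 2) F,
      M * (y : Matrix (Fin 2) (Fin 2) F) = (w : Matrix (Fin 2) (Fin 2) F) * M →
      dConj lam (g * y * g⁻¹) = w := by
    intro y w h
    have key : g * y = dConj lam⁻¹ w * g := by
      apply sl_ext
      rw [Matrix.SpecialLinearGroup.coe_mul, Matrix.SpecialLinearGroup.coe_mul, hg, Matrix.mul_assoc, h,
        ← Matrix.mul_assoc, ← Matrix.mul_assoc]
      congr 1
      rw [coe_dConj]
      ext i j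
      fin_cases i <;> fin_cases j <;> simp [el, Matrix.mul_apply, Fin.sum_univ_two] <;>
        first | ring1 | (field_simp <;> ring1)
    rw [key, mul_inv_cancel_right, dConj_inv]
  have hrr : dConj lam (g * r * g⁻¹) = r := hμ r r (by
    rw [hrM, Matrix.mul_smul, Matrix.smul_mul, ← Matrix.mul_assoc])
  have hMr : M * ((r⁻¹ : Matrix.SpecialLinearGroup (Fin 2) F) : Matrix (Fin 2) (Fin 2) F) = M.adjugate := by
    have h1 : M.adjugate * (r : Matrix (Fin 2) (Fin 2) F) = M := by
      rw [hrM, Matrix.mul_smul, ← Matrix.mul_assoc, hadj, Matrix.smul_mul, Matrix.one_mul, smul_smul,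
        ← Units.val_mul, inv_mul_cancel, Units.val_one, one_smul]
    calc M * ((r⁻¹ : Matrix.SpecialLinearGroup (Fin 2) F) : Matrix (Fin 2) (Fin 2) F)
        = M.adjugate * (r : Matrix (Fin 2) (Fin 2) F) *
          ((r⁻¹ : Matrix.SpecialLinearGroup (Fin 2) F) : Matrix (Fin 2) (Fin 2) F) := by rw [h1]
      _ = _ := by
        rw [Matrix.mul_assoc, ← Matrix.SpecialLinearGroup.coe_mul, mul_inv_cancel,
          Matrix.SpecialLinearGroup.coe_one, Matrix.mul_one]
  have hsμ : dConj lam (g * (r⁻¹ * s) * g⁻¹) = s := hμ _ s (by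
    rw [Matrix.SpecialLinearGroup.coe_mul, ← Matrix.mul_assoc, hMr, hsM])
  have hsr : s * r * s⁻¹ = r⁻¹ := by
    rw [mul_inv_eq_iff_eq_mul, eq_inv_mul_iff_mul_eq]
    apply sl_ext
    rw [Matrix.SpecialLinearGroup.coe_mul, Matrix.SpecialLinearGroup.coe_mul]
    have hMM : M * M * (M.adjugate * M.adjugate) = ((lam : F) * lam) • (1 : Matrix (Fin 2) (Fin 2) F) := by
      rw [Matrix.mul_assoc, ← Matrix.mul_assoc M M.adjugate, hadj', Matrix.smul_mul, Matrix.one_mul,
        Matrix.mul_smul, hadj', smul_smul]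
    have hsMM : (s : Matrix (Fin 2) (Fin 2) F) * (M * M) = M.adjugate * M.adjugate * s := by
      rw [← Matrix.mul_assoc, hsM, Matrix.mul_assoc, hsM, ← Matrix.mul_assoc]
    rw [hrM, Matrix.mul_smul, hsMM, Matrix.smul_mul, Matrix.mul_smul, ← Matrix.mul_assoc (M * M), hMM,
      Matrix.smul_mul, Matrix.one_mul, smul_smul, smul_smul]
    simp only [Units.val_inv_eq_inv_val]
    field_simp
    simp
  have hc2 : dia lam * dConj lam⁻¹ g * g = r := by
    apply sl_ext
    rw [Matrix.SpecialLinearGroup.coe_mul, Matrix.SpecialLinearGroup.coe_mul, hrM, coe_dConj]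
    simp only [el]
    rw [hg]
    ext i j
    fin_cases i <;> fin_cases j <;>
      simp [dia, Matrix.mul_apply, Matrix.vecMul, dotProduct, Fin.sum_univ_two] <;>
      first | ring1 | (field_simp <;> ring1)
  -- the generators
  set kq := r ^ k with hkq
  have hkk : kq * kq = -1 := by rw [hkq, ← pow_add, ← two_mul, hrp]
  have hskq : s * kq = -(kq * s) := by
    have h1 : s * kq * s⁻¹ = kq⁻¹ := by rw [hkq, ← conj_pow, hsr, inv_pow]
    have h2 : kq⁻¹ = -kq := inv_eq_of_mul_eq_one_right (by rw [mul_neg, hkk, neg_neg])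
    rw [mul_inv_eq_iff_eq_mul, h2, neg_mul] at h1
    exact h1
  set c := d * (φ g * ψ g) with hc
  set a := φ r with ha
  set b := ψ r with hb
  set u := φ s * ψ kq with hu
  set v := φ kq * ψ s with hv
  have hd' : ∀ (f : Matrix.SpecialLinearGroup (Fin 2) F →* G), (∀ y, d * f y * d⁻¹ = f (dConj lam y)) →
      ∀ y, f y * d = d * f (dConj lam⁻¹ y) := by
    intro f hf y
    have := hf (dConj lam⁻¹ y)
    rw [dConj_inv, mul_inv_eq_iff_eq_mul] at this
    exact this.symm
  have pair : ∀ x x' y y', φ x * ψ y * (φ x' * ψ y') = φ (x * x') * ψ (y * y') := by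
    intro x x' y y'
    rw [map_mul, map_mul, mul_assoc, ← mul_assoc (ψ y) (φ x'), ← (hcomm x' y).eq]
    simp only [mul_assoc]
  have hcc : c * c = a * b := by
    rw [hc]
    calc d * (φ g * ψ g) * (d * (φ g * ψ g)) = d * (φ g * (ψ g * d)) * (φ g * ψ g) := by group
      _ = d * (φ g * d) * ψ (dConj lam⁻¹ g) * (φ g * ψ g) := by rw [hd' ψ hdψ]; group
      _ = d * d * (φ (dConj lam⁻¹ g) * ψ (dConj lam⁻¹ g)) * (φ g * ψ g) := by rw [hd' φ hdφ]; group
      _ = _ := by rw [hdd, pair, pair, hc2]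
  have hcx : ∀ x y, c * (φ x * ψ y) = φ (dConj lam (g * x * g⁻¹)) * ψ (dConj lam (g * y * g⁻¹)) * c := by
    intro x y
    rw [← hdφ, ← hdψ, hc]
    calc d * (φ g * ψ g) * (φ x * ψ y) = d * (φ (g * x) * ψ (g * y)) := by rw [mul_assoc, pair]
      _ = d * (φ (g * x * g⁻¹) * ψ (g * y * g⁻¹) * (φ g * ψ g)) := by
          rw [pair, inv_mul_cancel_right, inv_mul_cancel_right]
      _ = _ := by group
  have hkμ : dConj lam (g * kq * g⁻¹) = kq := by rw [hkq, ← conj_pow, map_pow, hrr]
  have hab : a * b = b * a := (hcomm r r).eq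
  have hcb : c * b = b * c := by
    have h := hcx 1 r
    simp only [map_one, one_mul, mul_one, mul_inv_cancel, hrr] at h
    exact h
  have hca : c⁻¹ * b = c * a⁻¹ := by
    rw [inv_mul_eq_iff_eq_mul, ← mul_assoc, hcc, hab, mul_inv_cancel_right]
  have hcb' : c * b⁻¹ = c * b⁻¹ := rfl
  have hzz : φ (-1) * ψ (-1) = 1 := by
    rw [hneg, ← map_mul, neg_mul_neg, one_mul, map_one]
  have R : Mdl.Rel (4 * k) c b u v := by
    refine ⟨?_, ?_, hcb, ?_, ?_, ?_, ?_, ?_, ?_, ?_⟩
    · rw [show 4 * k = 2 * (2 * k) by ring, pow_mul, pow_two, hcc,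
        (show Commute a b from hab).mul_pow, ha, hb, ← map_pow, ← map_pow, hrp, hzz]
    · rw [hb, ← map_pow, show 4 * k = 2 * k * 2 by ring, pow_mul, hrp, pow_two, neg_mul_neg, one_mul,
        map_one]
    · rw [hu, pair, hss, hkk, hzz]
    · rw [hv, pair, hss, hkk, hzz]
    · rw [hu, hv, pair, pair, hskq, ← neg_one_mul (kq * s), map_mul φ, map_mul ψ (-1), hneg, mul_assoc,
        ← mul_assoc (φ (kq * s)), (hcomm (kq * s) (-1)).eq, mul_assoc]
    · rw [mul_inv_eq_iff_eq_mul, hca, hu, ha, ← map_inv, mul_assoc c, ← mul_assoc (φ r⁻¹), ← map_mul, hcx,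
        hsμ, hkμ]
    · rw [mul_inv_eq_iff_eq_mul, hu, hb, mul_assoc, ← map_mul, hkq, ← pow_succ, pow_succ', map_mul,
        ← mul_assoc, (hcomm s r).eq, mul_assoc]
    · rw [mul_inv_eq_iff_eq_mul, hv, hb, ← map_inv, mul_assoc c, ← mul_assoc (ψ r⁻¹),
        ← (hcomm kq r⁻¹).eq, mul_assoc (φ kq) (ψ r⁻¹), ← map_mul, hcx, hsμ, hkμ]
    · rw [hv, hb, mul_inv_eq_iff_eq_mul, mul_assoc, ← map_mul,
        show s * r = r⁻¹ * s from mul_inv_eq_iff_eq_mul.1 hsr, map_mul, ← mul_assoc, map_inv,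
        ((hcomm kq r).inv_right).eq, mul_assoc]
  refine ⟨Mdl.lift R, Mdl.injective_of_zE ?_ hk⟩
  intro h
  apply hne
  rw [← hrp, map_pow, ← hb]
  rw [Mdl.lift_apply] at h
  simpa [Mdl.liftFun, Mdl.zE, Mdl.val_hh] using h

end Abstract

open Cfsg.Agent.Chevalley Cfsg.Lie Cfsg.Agent.Chevalley.Table Cfsg.Agent.Chevalley.Cert Cfsg.Agent.Chevalley.Relations
  Cfsg.Agent.Chevalley.Group Cfsg.Agent.Chevalley.Borel

variable {F : Type*} [Field F] [Fintype F]

theorem exists_hom_root {r : ℕ} (hr : r < chevG2.nroots) :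
    ∃ φ : Matrix.SpecialLinearGroup (Fin 2) F →* GL chevG2.Idx F,
      (∀ t, φ (sx t) = xg Types.G2.certified r t) ∧
      (∀ t, φ (sy t) = xg Types.G2.certified (chevG2.neg r) t) ∧
      (∀ y, φ y ∈ Subgroup.closure (Set.range (fun t : F => xg Types.G2.certified r t) ∪
        Set.range fun t : F => xg Types.G2.certified (chevG2.neg r) t)) :=
  Cfsg.Agent.Chevalley.SL2.exists_hom (Cfsg.Agent.Chevalley.SL2.rank1 Types.G2.certified hr)

theorem comm_x {r s : ℕ} (hr : r < chevG2.nroots) (hs : s < chevG2.nroots) (hsr : s ≠ r)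
    (hsn : s ≠ chevG2.neg r) (h : chevG2.commTerms r s = []) (t u : F) :
    Commute (xg Types.G2.certified r t) (xg Types.G2.certified s u) := by
  show _ * _ = _ * _
  apply Units.ext
  rw [Units.val_mul, Units.val_mul, coe_xg, coe_xg]
  have := x_comm Types.G2.certified hr hs hsr hsn t u
  rw [ChevalleyDatum.commWord, h, List.map_nil, wordMat_nil, mul_one] at this
  exact this.symm

theorem torChar_const (l : Fˣ) (r : ℕ) :
    torChar chevG2 (fun _ => l) r = l ^ chevG2.cartan 0 r * l ^ chevG2.cartan 1 r := by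
  rw [torChar, show chevG2.rank = 2 from rfl, Finset.prod_range_succ, Finset.prod_range_succ,
    Finset.prod_range_zero, one_mul]

/-- A Sylow 2-subgroup of `G₂(q)` is the model. -/
theorem exists_sylow (hF : Odd (Fintype.card F)) :
    ∃ (k : ℕ) (_ : NeZero k) (ι : Mdl (4 * k) →* chevG2.group F) (P : Sylow 2 (chevG2.group F)),
      (k = 1 ∨ Even k) ∧ Function.Injective ι ∧ ι.range = (P : Subgroup (chevG2.group F)) := by
  classical
  set q := Fintype.card F with hq
  have hq1 : 1 < q := Fintype.one_lt_card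
  set T := (q ^ 2 - 1).factorization 2 with hT
  have hodd := Nat.odd_iff.1 hF
  have h8 : 8 ∣ q ^ 2 - 1 := by
    have := Nat.eight_dvd_sq_sub_one_of_odd hF
    exact this
  have hn0 : q ^ 2 - 1 ≠ 0 := by
    have : 4 ≤ q ^ 2 := by nlinarith
    omega
  have hT3 : 3 ≤ T := (Nat.prime_two.pow_dvd_iff_le_factorization hn0).1 (by simpa using h8)
  set e := T - 3 with he
  haveI : NeZero (2 ^ e) := ⟨pow_ne_zero _ two_ne_zero⟩
  have hdvd : 8 * 2 ^ e ∣ q ^ 2 - 1 := by
    rw [show 8 * 2 ^ e = 2 ^ (3 + e) by ring, show 3 + e = T by omega]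
    exact Nat.ordProj_dvd _ _
  obtain ⟨Dt⟩ := exists_datum (F := F) hF e hdvd
  have hC := Types.G2.certified
  obtain ⟨φ, hφx, hφy, hφm⟩ := exists_hom_root (F := F) (r := 7) (by decide)
  obtain ⟨ψ, hψx, hψy, hψm⟩ := exists_hom_root (F := F) (r := 11) (by decide)
  have h74 : chevG2.neg 7 = 4 := by decide +kernel
  have h110 : chevG2.neg 11 = 0 := by decide +kernel
  have hcomm : ∀ x y, Commute (φ x) (ψ y) := by
    intro x y
    have hle : Subgroup.closure (Set.range (fun t : F => xg Types.G2.certified 7 t) ∪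
        Set.range fun t : F => xg Types.G2.certified (chevG2.neg 7) t) ≤
        Subgroup.centralizer (Set.range (fun t : F => xg Types.G2.certified 11 t) ∪
          Set.range fun t : F => xg Types.G2.certified (chevG2.neg 11) t) := by
      rw [Subgroup.closure_le, h74, h110]
      rintro _ (⟨t, rfl⟩ | ⟨t, rfl⟩) <;> rw [SetLike.mem_coe, Subgroup.mem_centralizer_iff] <;>
        rintro _ (⟨u, rfl⟩ | ⟨u, rfl⟩) <;>
        exact (comm_x (by decide) (by decide) (by decide) (by decide +kernel) (by decide +kernel) t u).eq.symm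
    have h1 := hle (hφm x)
    have hle2 := hψm y
    rw [Subgroup.mem_centralizer_iff] at h1
    have h2 : ψ y ∈ Subgroup.centralizer ({φ x} : Set (GL chevG2.Idx F)) :=
      (Subgroup.closure_le _).2 (fun z hz => Subgroup.mem_centralizer_singleton_iff.2 (h1 z hz)) hle2
    exact (Subgroup.mem_centralizer_singleton_iff.1 h2).symm
  -- the torus element
  set c₀ : ℕ → Fˣ := fun _ => Dt.lam with hc₀
  set d := tor chevG2 c₀ with hd
  have hdact : ∀ (f : Matrix.SpecialLinearGroup (Fin 2) F →* GL chevG2.Idx F) (r : ℕ), r < chevG2.nroots →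
      chevG2.neg r < chevG2.nroots →
      torChar chevG2 c₀ r = Dt.lam → torChar chevG2 c₀ (chevG2.neg r) = Dt.lam⁻¹ →
      (∀ t, f (sx t) = xg Types.G2.certified r t) →
      (∀ t, f (sy t) = xg Types.G2.certified (chevG2.neg r) t) →
      ∀ y, d * f y * d⁻¹ = f (dConj Dt.lam y) := by
    intro f r hr hr' e1 e2 hx hy y
    suffices y ∈ MonoidHom.eqLocus ((MulAut.conj d).toMonoidHom.comp f) (f.comp (dConj Dt.lam)) from this
    refine mem_of_generators (fun t => ?_) (fun t => ?_) y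
    · show d * f (sx t) * d⁻¹ = f (dConj Dt.lam (sx t))
      rw [hx, hd, tor_conj_x Types.G2.certified _ _ _ hr, e1, ← hx]
      congr 1
      apply sl_ext
      rw [coe_dConj, coe_sx]
      ext i j; fin_cases i <;> fin_cases j <;> simp [el]
    · show d * f (sy t) * d⁻¹ = f (dConj Dt.lam (sy t))
      rw [hy, hd, tor_conj_x Types.G2.certified _ _ _ hr', e2, ← hy]
      congr 1
      apply sl_ext
      rw [coe_dConj, coe_sy]
      ext i j; fin_cases i <;> fin_cases j <;> simp [el]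
  have hdφ := hdact φ 7 (by decide) (by decide +kernel)
    (by rw [hc₀, torChar_const, show chevG2.cartan 0 7 = 2 by decide +kernel,
      show chevG2.cartan 1 7 = -1 by decide +kernel, ← _root_.zpow_add]; norm_num)
    (by rw [hc₀, h74, torChar_const, show chevG2.cartan 0 4 = -2 by decide +kernel,
      show chevG2.cartan 1 4 = 1 by decide +kernel, ← _root_.zpow_add]; norm_num) hφx hφy
  have hdψ := hdact ψ 11 (by decide) (by decide +kernel)
    (by rw [hc₀, torChar_const, show chevG2.cartan 0 11 = 0 by decide +kernel,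
      show chevG2.cartan 1 11 = 1 by decide +kernel, ← _root_.zpow_add]; norm_num)
    (by rw [hc₀, h110, torChar_const, show chevG2.cartan 0 0 = 0 by decide +kernel,
      show chevG2.cartan 1 0 = -1 by decide +kernel, ← _root_.zpow_add]; norm_num) hψx hψy
  have hdia : ∀ (f : Matrix.SpecialLinearGroup (Fin 2) F →* GL chevG2.Idx F) (r : ℕ), r < chevG2.nroots →
      (∀ t, f (sx t) = xg Types.G2.certified r t) →
      (∀ t, f (sy t) = xg Types.G2.certified (chevG2.neg r) t) →
      ∀ l : Fˣ, f (dia l) = tor chevG2 (fun i => l ^ cor chevG2 r i) := by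
    intro f r hr hx hy l
    rw [dia_eq, map_mul, sn, sn, map_mul, map_mul, map_mul, map_mul, hx, hy, hx, hy,
      ← hg_eq_tor Types.G2.certified hr]
    rfl
  have hcor : ∀ l : Fˣ, ∀ i < chevG2.rank, (fun i => l ^ cor chevG2 7 i) i * (fun i => l ^ cor chevG2 11 i) i
      = l * l := by
    intro l i hi
    change i < 2 at hi
    interval_cases i
    · show l ^ cor chevG2 7 0 * l ^ cor chevG2 11 0 = l * l
      rw [show cor chevG2 7 0 = 1 by decide +kernel, show cor chevG2 11 0 = 1 by decide +kernel, zpow_one]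
    · show l ^ cor chevG2 7 1 * l ^ cor chevG2 11 1 = l * l
      rw [show cor chevG2 7 1 = 0 by decide +kernel, show cor chevG2 11 1 = 2 by decide +kernel, zpow_zero,
        one_mul, zpow_two]
  have hdd : d * d = φ (dia Dt.lam) * ψ (dia Dt.lam) := by
    rw [hdia φ 7 (by decide) hφx hφy, hdia ψ 11 (by decide) hψx hψy, hd, tor_mul, tor_mul, tor, tor]
    exact dg_congr fun s _ => Finset.prod_congr rfl fun j hj => by
      simp only [Pi.mul_apply]
      rw [show Dt.lam ^ cor chevG2 7 j * Dt.lam ^ cor chevG2 11 j = Dt.lam * Dt.lam from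
        hcor Dt.lam j (Finset.mem_range.1 hj)]
  have hneg1 : ∀ i, i < 2 → ((-1 : Fˣ) ^ cor chevG2 7 i) = (-1 : Fˣ) ^ cor chevG2 11 i := by
    intro i hi
    interval_cases i
    · rw [show cor chevG2 7 0 = 1 by decide +kernel, show cor chevG2 11 0 = 1 by decide +kernel]
    · rw [show cor chevG2 7 1 = 0 by decide +kernel, show cor chevG2 11 1 = 2 by decide +kernel,
        zpow_zero, zpow_two, neg_mul_neg, one_mul]
  have hneg : φ (-1) = ψ (-1) := by
    rw [← dia_neg_one, hdia φ 7 (by decide) hφx hφy, hdia ψ 11 (by decide) hψx hψy, tor, tor]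
    exact dg_congr fun s _ => Finset.prod_congr rfl fun j hj => by
      dsimp only
      rw [hneg1 j (Finset.mem_range.1 hj)]
  have hne : ψ (-1) ≠ 1 := by
    intro h
    rw [← dia_neg_one, hdia ψ 11 (by decide) hψx hψy] at h
    have h6 := congrArg (fun g : GL chevG2.Idx F => (g : Matrix chevG2.Idx chevG2.Idx F)
      (Sum.inr ⟨6, by decide⟩) (Sum.inr ⟨6, by decide⟩)) h
    simp only [Units.val_one, Matrix.one_apply_eq, coe_tor Types.G2.certified] at h6
    rw [Root.dMat, Matrix.diagonal_apply_eq, Sum.elim_inr] at h6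
    have hv : torChar chevG2 (fun i => (-1 : Fˣ) ^ cor chevG2 11 i) 6 = -1 := by
      rw [torChar, show chevG2.rank = 2 from rfl, Finset.prod_range_succ, Finset.prod_range_succ,
        Finset.prod_range_zero, one_mul, show cor chevG2 11 0 = 1 by decide +kernel,
        show cor chevG2 11 1 = 2 by decide +kernel, show chevG2.cartan 0 6 = -3 by decide +kernel,
        show chevG2.cartan 1 6 = 2 by decide +kernel]
      simp [_root_.zpow_neg, pow_succ]
    rw [hv, Units.val_neg, Units.val_one] at h6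
    have h2 : (2 : F) = 0 := by linear_combination -h6
    refine Ring.two_ne_zero (fun h' => ?_) h2
    have := FiniteField.even_card_of_char_two h'
    exact absurd this (by rw [← hq]; omega)
  -- inside the group
  have hle : ∀ r, r < chevG2.nroots → ∀ t : F, xg Types.G2.certified r t ∈ chevG2.group F :=
    fun r hr t => xg_mem_group Types.G2.certified hr t
  have hmem : ∀ (f : Matrix.SpecialLinearGroup (Fin 2) F →* GL chevG2.Idx F) (r : ℕ), r < chevG2.nroots →
      chevG2.neg r < chevG2.nroots →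
      (∀ y, f y ∈ Subgroup.closure (Set.range (fun t : F => xg Types.G2.certified r t) ∪
        Set.range fun t : F => xg Types.G2.certified (chevG2.neg r) t)) → ∀ y, f y ∈ chevG2.group F :=
    fun f r hr hr' hf y => (Subgroup.closure_le _).2 (by
      rintro _ (⟨t, rfl⟩ | ⟨t, rfl⟩)
      exacts [hle r hr t, hle _ hr' t]) (hf y)
  have hdG : d ∈ chevG2.group F :=
    H_le_group Types.G2.certified (tor_mem_H Types.G2.certified c₀)
  let φ' := φ.codRestrict (chevG2.group F) (hmem φ 7 (by decide) (by decide +kernel) hφm)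
  let ψ' := ψ.codRestrict (chevG2.group F) (hmem ψ 11 (by decide) (by decide +kernel) hψm)
  obtain ⟨ι, hι⟩ := exists_embedding rfl Dt φ' ψ' (fun x y => Subtype.ext (hcomm x y).eq) ⟨d, hdG⟩
    (fun y => Subtype.ext (hdφ y)) (fun y => Subtype.ext (hdψ y)) (Subtype.ext hdd) (Subtype.ext hneg)
    (fun h => hne (congrArg Subtype.val h))
  -- the order
  have hcard : Nat.card (chevG2.group F) = q ^ 6 * ((q ^ 2 - 1) * (q ^ 6 - 1)) := by
    have h := Types.OrderG2.card_group F
    simpa [Types.OrderG2.ed, Fin.prod_univ_two, hq] using h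
  have h6 : q ^ 6 - 1 = (q ^ 2 - 1) * (q ^ 4 + q ^ 2 + 1) := by
    obtain ⟨a, ha⟩ : ∃ a, q ^ 2 = a + 1 := ⟨q ^ 2 - 1, by omega⟩
    rw [show q ^ 6 = (q ^ 2) ^ 3 by ring, show q ^ 4 = (q ^ 2) ^ 2 by ring, ha]
    have : (a + 1) ^ 3 = a * ((a + 1) ^ 2 + (a + 1) + 1) + 1 := by ring
    rw [this, Nat.add_sub_cancel, Nat.add_sub_cancel]
  have hfac : (Nat.card (chevG2.group F)).factorization 2 = 2 * T := by
    have o1 : ¬ 2 ∣ q ^ 6 := fun h => absurd (Nat.Prime.dvd_of_dvd_pow Nat.prime_two h) (by omega)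
    have o2 : ¬ 2 ∣ q ^ 4 + q ^ 2 + 1 := by
      rw [Nat.two_dvd_ne_zero, Nat.add_mod, Nat.add_mod (q ^ 4), Nat.pow_mod, hodd,
        Nat.pow_mod q 2, hodd]
    have hp : q ^ 4 + q ^ 2 + 1 ≠ 0 := by omega
    rw [hcard, h6, Nat.factorization_mul (by positivity) (mul_ne_zero hn0 (mul_ne_zero hn0 hp)),
      Nat.factorization_mul hn0 (mul_ne_zero hn0 hp), Nat.factorization_mul hn0 hp]
    simp only [Finsupp.add_apply, Nat.factorization_eq_zero_of_not_dvd o1,
      Nat.factorization_eq_zero_of_not_dvd o2, ← hT]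
    ring
  haveI : Fact (Nat.Prime 2) := ⟨Nat.prime_two⟩
  have hr2 : Nat.card ι.range = 2 ^ (Nat.card (chevG2.group F)).factorization 2 := by
    rw [← Nat.card_congr (MonoidHom.ofInjective hι).toEquiv, Mdl.card_eq, hfac,
      show 2 * T = 2 + 2 * (2 + e) by omega, pow_add, pow_mul', pow_add]
    ring
  refine ⟨2 ^ e, inferInstance, ι, Sylow.ofCard ι.range hr2, ?_, hι, (Sylow.coe_ofCard _ hr2).symm⟩
  rcases Nat.eq_zero_or_pos e with h | h
  · left; rw [h, pow_zero]
  · right; exact Nat.even_pow.2 ⟨even_two, by omega⟩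

end Cfsg.Agent.G2Type
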